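import Groth.Agent.CohOps.Deligne
import Groth.Agent.CohDev.Gen
import Groth.Agent.Props.GenLocus
import Groth.Agent.HomShQC.Stalk
import Groth.Agent.S9526

/-!
Maps with prescribed behaviour at a point.
-/

universe u

open CategoryTheory Limits AlgebraicGeometry Opposite TopologicalSpace

noncomputable section

namespace Groth.Agent.CohOps.Generic

open Groth.Agent.CohDev Groth.Agent.PullStalk.Sky Groth.Agent.PullStalk.Exact

variable {X : Scheme.{u}}

lemma stalkLin_homOfSec {T : X.Modules} (σ : Γ(T, ⊤)) (x : X) (t : (Coh.structureModule X).presheaf.stalk x) :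
    ∃ c : X.presheaf.stalk x, t = HomShQC.unitStalk x c ∧
      stalkLin (Props.GenLocus.homOfSec σ) x t = c • germM T ⊤ x trivial σ := by
  obtain ⟨U, hx, a, rfl⟩ := exists_germM_eq (Coh.structureModule X) x t
  refine ⟨X.presheaf.germ U x hx (show Γ(X, U) from a), (HomShQC.unitStalk_germ x hx _).symm, ?_⟩
  refine (stalkLin_germ _ U x hx a).trans ?_
  refine (congrArg (germM T U x hx) ((Props.GenLocus.app_eq (Props.GenLocus.homOfSec σ) U
    (show Γ(X, U) from a)).trans (congrArg _ (Props.GenLocus.sec_homOfSec σ U)))).trans ?_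
  refine (germM_smul T U x hx _ _).trans (congrArg _ ?_)
  exact T.presheaf.germ_res_apply (homOfLE (le_top : U ≤ ⊤)) x hx σ

variable [IsNoetherian X]

/-- The map `O^r ⟶ T` of sections whose germs form a basis is bijective on the stalk. -/
theorem bijective_desc {T : X.Modules} {r : ℕ} (σ : Fin r → Γ(T, ⊤)) (x : X)
    (b : Module.Basis (Fin r) (X.presheaf.stalk x) (T.presheaf.stalk x))
    (hb : ∀ i, germM T ⊤ x trivial (σ i) = b i) :
    Function.Bijective (stalkLin (biproduct.desc fun i => Props.GenLocus.homOfSec (σ i) :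
      pow (Coh.structureModule X) r ⟶ T) x) := by
  let e : (pow (Coh.structureModule X) r).presheaf.stalk x ≃ₗ[X.presheaf.stalk x] T.presheaf.stalk x :=
    ((powStalkEquiv (Coh.structureModule X) r x).trans
      (LinearEquiv.piCongrRight fun _ => (HomShQC.unitStalk x).symm)).trans b.equivFun.symm
  suffices h : ∀ v, stalkLin (biproduct.desc fun i => Props.GenLocus.homOfSec (σ i) :
      pow (Coh.structureModule X) r ⟶ T) x v = e v by
    rw [show ⇑(stalkLin (biproduct.desc fun i => Props.GenLocus.homOfSec (σ i) :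
      pow (Coh.structureModule X) r ⟶ T) x) = ⇑e from funext h]
    exact e.bijective
  intro v
  conv_lhs => rw [← stalkLin_id_apply x v, ← biproduct.total, stalkLin_sum_apply, map_sum]
  rw [LinearEquiv.trans_apply, Module.Basis.equivFun_symm_apply]
  refine Finset.sum_congr rfl fun i _ => ?_
  rw [← stalkLin_comp_apply, Category.assoc, biproduct.ι_desc, stalkLin_comp_apply]
  obtain ⟨c, hc, h⟩ := stalkLin_homOfSec (σ i) x (stalkLin (biproduct.π (fun _ : Fin r => Coh.structureModule X) i) x v)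
  rw [h, hb]
  congr 1
  change c = (HomShQC.unitStalk x).symm (stalkLin (biproduct.π (fun _ : Fin r => Coh.structureModule X) i) x v)
  rw [hc, LinearEquiv.symm_apply_apply]

/-- Equality of restrictions gives equality on stalks. -/
lemma stalkLin_congr_of_restrict {U : X.Opens} {A B : X.Modules} (a b : A ⟶ B)
    (h : (Scheme.Modules.restrictFunctor U.ι).map a = (Scheme.Modules.restrictFunctor U.ι).map b)
    (x : X) (hx : x ∈ U) (t : A.presheaf.stalk x) : stalkLin a x t = stalkLin b x t := by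
  obtain ⟨O, hxO, m, rfl⟩ := exists_germM_eq A x t
  have hle : U.ι ''ᵁ (U.ι ⁻¹ᵁ O) ≤ O := by
    rw [Scheme.Hom.image_preimage_eq_opensRange_inf]; exact inf_le_right
  have hx' : x ∈ U.ι ''ᵁ (U.ι ⁻¹ᵁ O) := ⟨⟨x, hx⟩, hxO, rfl⟩
  rw [show germM A O x hxO m = germM A _ x hx' (QCoh.res A hle m) from
    (A.presheaf.germ_res_apply (homOfLE hle) x hx' m).symm, stalkLin_germ, stalkLin_germ]
  exact congrArg (germM B _ x hx') (congrArg (fun f => f.app (U.ι ⁻¹ᵁ O) (QCoh.res A hle m)) h)

/-- A map of stalks extends after multiplication by an ideal invertible at the point. -/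
theorem exists_extension_at {G F : X.Modules} (hG : Coh.IsCoh G) (hF : Coh.IsCoh F) (x : X)
    (ψ : G.presheaf.stalk x →ₗ[X.presheaf.stalk x] F.presheaf.stalk x) :
    ∃ (J : X.IdealSheafData) (Φ : (Dual3.idealMul J).obj G ⟶ F), x ∉ (J.support : Set X) ∧
      Function.Bijective (stalkLin (Dual3.idealMulι J G) x) ∧
      ∀ t, stalkLin Φ x t = ψ (stalkLin (Dual3.idealMulι J G) x t) := by
  obtain ⟨U, hx, φ, hφ⟩ := S9526.result X F G hF hG x ψ
  let I := Scheme.IdealSheafData.vanishingIdeal (⟨(U : Set X)ᶜ, U.isOpen.isClosed_compl⟩ : Closeds X)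
  have hU : (U : Set X) = (I.support : Set X)ᶜ := by
    rw [Scheme.IdealSheafData.coe_support_vanishingIdeal]; exact (compl_compl _).symm
  obtain ⟨n, Φ, hΦ⟩ := Deligne.exists_hom_extension hU hF.1 hG φ
  haveI := Deligne.isIso_restrict_idealMulι hU n G
  have hxr : x ∈ Set.range U.ι := by rw [Scheme.Opens.range_ι]; exact hx
  refine ⟨I ^ (n + 1), Φ, ?_, stalk_bijective_of_isIso_restrict U.ι _ hxr, fun t => ?_⟩
  · rw [Scheme.IdealSheafData.support_pow_succ]
    exact fun h => (hU.le hx) h
  obtain ⟨O, hxO, m, rfl⟩ := exists_germM_eq _ x t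
  let W := U.ι ⁻¹ᵁ O
  let z : ↥U := ⟨x, hx⟩
  have hle : U.ι ''ᵁ W ≤ O := by
    rw [Scheme.Hom.image_preimage_eq_opensRange_inf]; exact inf_le_right
  have hx' : x ∈ U.ι ''ᵁ W := ⟨z, hxO, rfl⟩
  rw [show germM _ O x hxO m = germM _ _ x hx' (QCoh.res ((Dual3.idealMul (I ^ (n + 1))).obj G) hle m) from
    (((Dual3.idealMul (I ^ (n + 1))).obj G).presheaf.germ_res_apply (homOfLE hle) x hx' m).symm,
    stalkLin_germ, stalkLin_germ]
  set m' := (Dual3.idealMulι (I ^ (n + 1)) G).app (U.ι ''ᵁ W) (QCoh.res _ hle m) with hm'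
  have h1 := congrArg (fun f => f.app W (QCoh.res ((Dual3.idealMul (I ^ (n + 1))).obj G) hle m)) hΦ
  refine (congrArg (germM F _ x hx') h1).trans ?_
  have e1 : (Scheme.Modules.restrictStalkNatIso U.ι z).inv.app G (germM G (U.ι ''ᵁ W) x hx' m') =
      germM ((Scheme.Modules.restrictFunctor U.ι).obj G) W z hxO m' :=
    ConcreteCategory.congr_hom (Scheme.Modules.germ_restrictStalkNatIso_inv_app U.ι z G hxO) m'
  have e2 := TopCat.Presheaf.stalkFunctor_map_germ_apply W z hxO φ.mapPresheaf m'
  have e3 := ConcreteCategory.congr_hom (Scheme.Modules.germ_restrictStalkNatIso_hom_app U.ι z F hxO)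
    (φ.app W m')
  exact (((congrArg _ (congrArg _ e1)).trans ((congrArg _ e2).trans e3)).symm.trans
    (ConcreteCategory.congr_hom hφ (germM G (U.ι ''ᵁ W) x hx' m')))

end Groth.Agent.CohOps.Generic
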