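import Groth.Agent.CohOps.Deligne

/-!
Sections of `I G` and of intersections of subobjects on affine opens.
-/

universe u

open CategoryTheory Limits AlgebraicGeometry Opposite TopologicalSpace

noncomputable section

namespace Groth.Agent.CohOps.Sections

open Groth.Agent.CohDev Groth.Agent.PullStalk.Sky Groth.Agent.PullStalk.Exact

variable {X : Scheme.{u}}

lemma appLin_comp {A B C : X.Modules} (f : A ⟶ B) (g : B ⟶ C) (W : X.Opens) :
    appLin (f ≫ g) W = (appLin g W).comp (appLin f W) := by
  ext s; rfl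

/-- `Γ(W, I G) = I Γ(W, G)` inside `Γ(W, G)`. -/
theorem range_idealMulι (J : X.IdealSheafData) (G : X.Modules) [G.IsQuasicoherent] (W : X.affineOpens) :
    LinearMap.range (appLin (Dual3.idealMulι J G) W.1) = J.ideal W • ⊤ := by
  let η : G ⟶ (Scheme.Modules.pushforward J.subschemeι).obj ((Scheme.Modules.pullback J.subschemeι).obj G) :=
    (Scheme.Modules.pullbackPushforwardAdjunction J.subschemeι).unit.app G
  have hk : ∀ a ∈ J.ideal W, ∀ s : Γ((Scheme.Modules.pushforward J.subschemeι).obj
      ((Scheme.Modules.pullback J.subschemeι).obj G), W.1), a • s = 0 := fun a ha s => by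
    have h0 : J.subschemeι.app W.1 a = 0 := by
      rw [← RingHom.mem_ker, J.ker_subschemeι_app W]
      exact ha
    change (J.subschemeι.app W.1 a) • (show Γ((Scheme.Modules.pullback J.subschemeι).obj G, J.subschemeι ⁻¹ᵁ W.1) from s) = 0
    rw [h0, zero_smul]
  refine le_antisymm ?_ (Submodule.smul_le.mpr fun a ha m _ => ?_)
  · rintro - ⟨s, rfl⟩
    have h0 : η.app W.1 ((Dual3.idealMulι J G).app W.1 s) = 0 := by
      change (Dual3.idealMulι J G ≫ η).app W.1 s = 0
      rw [show Dual3.idealMulι J G ≫ η = 0 from kernel.condition _]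
      rfl
    rw [← Submodule.span_eq (J.ideal W • (⊤ : Submodule Γ(X, W.1) Γ(G, W.1)))]
    refine Props.SubMod.mem_span_of_germ W.2 fun y hy => ?_
    have h1 : stalkLin η y (germM G W.1 y hy ((Dual3.idealMulι J G).app W.1 s)) = 0 := by
      rw [stalkLin_germ, h0]
      exact map_zero (((Scheme.Modules.pushforward J.subschemeι).obj
        ((Scheme.Modules.pullback J.subschemeι).obj G)).presheaf.germ W.1 y hy).hom
    obtain ⟨m, t, hm, ht, e⟩ := exists_smul_mem_of_mem W.2 hy _ (mem_smul_of_unit_eq_zero J G W.2 hy _ h1)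
    refine (Submodule.smul_mem_iff_of_isUnit _ ht).mp ?_
    exact e ▸ Submodule.subset_span ⟨m, hm, rfl⟩
  · have h0 : η.app W.1 (a • m) = 0 := by
      rw [Scheme.Modules.Hom.app_smul]; exact hk a ha _
    let S := ShortComplex.mk (Dual3.idealMulι J G) η (kernel.condition _)
    have hS : S.Exact := S.exact_of_f_is_kernel (kernelIsKernel _)
    haveI : Mono S.f := inferInstanceAs (Mono (kernel.ι η))
    exact QCoh.exists_app_eq_of_app_eq_zero S hS W.1 _ h0

theorem range_idealMulι_comp (J : X.IdealSheafData) {K G : X.Modules} [K.IsQuasicoherent] (k : K ⟶ G)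
    (W : X.affineOpens) :
    LinearMap.range (appLin (Dual3.idealMulι J K ≫ k) W.1) =
      J.ideal W • LinearMap.range (appLin k W.1) := by
  rw [appLin_comp, LinearMap.range_comp, range_idealMulι, Submodule.map_smul'', Submodule.map_top]

theorem isQCoh_idealMul (J : X.IdealSheafData) (G : X.Modules) [G.IsQuasicoherent] :
    Coh.IsQCoh ((Dual3.idealMul J).obj G) := by
  haveI := QCoh.isQuasicoherent_pushforward J.subschemeι ((Scheme.Modules.pullback J.subschemeι).obj G)
  exact @QCoh.isQuasicoherent_kernel X G _ _ inferInstance this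

theorem range_arrow_mk {A F : X.Modules} (a : A ⟶ F) [Mono a] (W : X.Opens) :
    LinearMap.range (appLin (Subobject.mk a).arrow W) = LinearMap.range (appLin a W) := by
  apply le_antisymm
  · conv_lhs => rw [← Subobject.underlyingIso_hom_comp_eq_mk a, appLin_comp]
    exact LinearMap.range_comp_le_range _ _
  · conv_lhs => rw [← Subobject.underlyingIso_arrow a, appLin_comp]
    exact LinearMap.range_comp_le_range _ _

theorem range_inf {A B F : X.Modules} (a : A ⟶ F) [Mono a] (b : B ⟶ F) [Mono b] (W : X.Opens) :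
    LinearMap.range (appLin (Subobject.mk a ⊓ Subobject.mk b).arrow W) =
      LinearMap.range (appLin a W) ⊓ LinearMap.range (appLin b W) := by
  apply le_antisymm
  · refine le_inf ?_ ?_
    · rw [← range_arrow_mk a W]
      conv_lhs => rw [← Subobject.ofLE_arrow (inf_le_left : Subobject.mk a ⊓ Subobject.mk b ≤ _), appLin_comp]
      exact LinearMap.range_comp_le_range _ _
    · rw [← range_arrow_mk b W]
      conv_lhs => rw [← Subobject.ofLE_arrow (inf_le_right : Subobject.mk a ⊓ Subobject.mk b ≤ _), appLin_comp]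
      exact LinearMap.range_comp_le_range _ _
  · rintro m ⟨⟨s, rfl⟩, ⟨t, ht⟩⟩
    let p := b ≫ cokernel.π a
    let S := ShortComplex.mk (kernel.ι p) p (kernel.condition _)
    haveI : Mono S.f := inferInstanceAs (Mono (kernel.ι p))
    have h0 : p.app W t = 0 := by
      change (cokernel.π a).app W (appLin b W t) = 0
      rw [ht]
      change (a ≫ cokernel.π a).app W s = 0
      rw [cokernel.condition]; rfl
    obtain ⟨u, hu⟩ := QCoh.exists_app_eq_of_app_eq_zero S (S.exact_of_f_is_kernel (kernelIsKernel _)) W t h0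
    have hle : Subobject.mk (kernel.ι p ≫ b) ≤ Subobject.mk a ⊓ Subobject.mk b :=
      le_inf (Subobject.mk_le_mk_of_comm (Abelian.monoLift a (kernel.ι p ≫ b)
          (by rw [Category.assoc]; exact kernel.condition p)) (Abelian.monoLift_comp _ _ _))
        (Subobject.mk_le_mk_of_comm (kernel.ι p) rfl)
    refine ⟨appLin (Subobject.ofMkLE _ _ hle) W u, ?_⟩
    have e := congrArg (fun f => f.app W u) (Subobject.ofMkLE_arrow hle)
    exact e.trans ((congrArg (b.app W) hu).trans ht)

theorem isQCoh_inf {A B F : X.Modules} (a : A ⟶ F) [Mono a] (b : B ⟶ F) [Mono b]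
    (hA : Coh.IsQCoh A) (hB : Coh.IsQCoh B) (hF : Coh.IsQCoh F) :
    Coh.IsQCoh (Subobject.underlying.obj (Subobject.mk a ⊓ Subobject.mk b)) := by
  haveI : A.IsQuasicoherent := hA
  haveI : B.IsQuasicoherent := hB
  haveI : F.IsQuasicoherent := hF
  haveI := QCoh.isQuasicoherent_cokernel a
  have hle : Subobject.mk (kernel.ι (b ≫ cokernel.π a) ≫ b) = Subobject.mk a ⊓ Subobject.mk b := by
    refine le_antisymm (le_inf (Subobject.mk_le_mk_of_comm (Abelian.monoLift a _
        (by rw [Category.assoc]; exact kernel.condition _)) (Abelian.monoLift_comp _ _ _))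
      (Subobject.mk_le_mk_of_comm (kernel.ι _) rfl)) ?_
    let I := Subobject.mk a ⊓ Subobject.mk b
    let la : (I : X.Modules) ⟶ A := Subobject.ofLE _ _ inf_le_left ≫ (Subobject.underlyingIso a).hom
    let lb : (I : X.Modules) ⟶ B := Subobject.ofLE _ _ inf_le_right ≫ (Subobject.underlyingIso b).hom
    have ha : la ≫ a = I.arrow := by simp [la, I]
    have hb : lb ≫ b = I.arrow := by simp [lb, I]
    refine Subobject.le_mk_of_comm (kernel.lift _ lb
      (by rw [← Category.assoc, hb, ← ha, Category.assoc, cokernel.condition, comp_zero])) ?_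
    rw [kernel.lift_ι_assoc, hb]
  rw [← hle]
  haveI := QCoh.isQuasicoherent_kernel (b ≫ cokernel.π a)
  exact QCoh.isQuasicoherent_of_iso (Subobject.underlyingIso _).symm

/-- Quasi-coherent submodules are compared on affine opens. -/
theorem mk_le_mk_of_range {A B F : X.Modules} [A.IsQuasicoherent] (a : A ⟶ F) [Mono a] (b : B ⟶ F) [Mono b]
    (h : ∀ W : X.affineOpens, LinearMap.range (appLin a W.1) ≤ LinearMap.range (appLin b W.1)) :
    Subobject.mk a ≤ Subobject.mk b := by
  have h0 : a ≫ cokernel.π b = 0 := QCohGen.Noeth.eq_zero_of_cover _ fun x => by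
    obtain ⟨W, hW, hx, -⟩ := exists_isAffineOpen_mem_and_subset (X := X) (Opens.mem_top x)
    refine ⟨⟨W, hW⟩, hx, fun s => ?_⟩
    obtain ⟨t, ht⟩ := h ⟨W, hW⟩ ⟨s, rfl⟩
    change (cokernel.π b).app W (appLin a W s) = 0
    rw [← ht]
    change (b ≫ cokernel.π b).app W t = 0
    rw [cokernel.condition]; rfl
  exact Subobject.mk_le_mk_of_comm (Abelian.monoLift b a h0) (Abelian.monoLift_comp _ _ _)

end Groth.Agent.CohOps.Sections
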