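import Groth.Agent.ProjProper.Basic
import Groth.Agent.ZetaLib.ProjPoints
import Mathlib.AlgebraicGeometry.Morphisms.Smooth
import Mathlib.RingTheory.Smooth.Basic

/-!
# Projective space over a base is smooth
Every standard chart `D₊(X_i)` of `ℙⁿ_A` is the spectrum of a polynomial ring.
-/

set_option autoImplicit false
set_option maxHeartbeats 800000
universe u

noncomputable section

open AlgebraicGeometry CategoryTheory MvPolynomial

namespace Groth.Agent.CohOps.PnSmooth

variable (n : ℕ) (A : Type u) [CommRing A] (i : Fin (n + 1))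

theorem X_mem : (X i : MvPolynomial (Fin (n + 1)) A) ∈ CohB1.polyGrading n A 1 :=
  (mem_homogeneousSubmodule 1 _).mpr (isHomogeneous_X A i)

/-- Dehomogenisation at `X i`. -/
abbrev dh : MvPolynomial (Fin (n + 1)) A →+* HomogeneousLocalization.Away (CohB1.polyGrading n A) (X i) :=
  ZetaLib.dehom (CohB1.polyGrading n A) (X_mem n A i)

theorem dh_self : dh n A i (X i) = 1 := by
  rw [dh, ZetaLib.dehom_of_mem _ _ (X_mem n A i)]
  refine HomogeneousLocalization.val_injective _ ?_
  simp [Localization.mk_self ⟨X i, (Submonoid.mem_powers (X i : MvPolynomial (Fin (n + 1)) A))⟩]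

theorem dh_C (r : A) :
    dh n A i (C r) = HomogeneousLocalization.fromZeroRingHom (CohB1.polyGrading n A) _
      (algebraMap A (CohB1.polyGrading n A 0) r) := by
  rw [dh, ZetaLib.dehom_of_mem _ _ ((mem_homogeneousSubmodule 0 _).mpr (isHomogeneous_C _ r))]
  refine HomogeneousLocalization.val_injective _ ?_
  simp [HomogeneousLocalization.fromZeroRingHom]
  all_goals rfl

/-- Setting `X i = 1`. -/
abbrev ev : MvPolynomial (Fin (n + 1)) A →+* MvPolynomial (Fin n) A :=
  eval₂Hom C (Fin.insertNth i 1 fun j => X j)

/-- The inverse of the chart isomorphism. -/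
abbrev toAway : MvPolynomial (Fin n) A →+* HomogeneousLocalization.Away (CohB1.polyGrading n A) (X i) :=
  eval₂Hom ((dh n A i).comp C) fun j => dh n A i (X (i.succAbove j))

theorem toAway_comp_ev : (toAway n A i).comp (ev n A i) = dh n A i := by
  refine MvPolynomial.ringHom_ext (fun r => by simp) fun k => ?_
  rcases Fin.eq_self_or_eq_succAbove i k with rfl | ⟨j, rfl⟩
  · simp [dh_self]
  · simp

theorem exists_leftInverse :
    ∃ φ : HomogeneousLocalization.Away (CohB1.polyGrading n A) (X i) →+* MvPolynomial (Fin n) A,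
      φ.comp (dh n A i) = ev n A i := by
  have hu : IsUnit (ev n A i (X i)) := by simp
  refine ⟨(IsLocalization.Away.lift (S := Localization.Away (X i : MvPolynomial (Fin (n + 1)) A)) (X i) hu).comp
    (algebraMap _ _), ?_⟩
  refine MvPolynomial.ringHom_ext (fun r => ?_) fun j => ?_
  · rw [RingHom.comp_apply, dh_C, RingHom.comp_apply]
    refine Eq.trans (congrArg _ (?_ : _ = algebraMap (MvPolynomial (Fin (n + 1)) A) _ (C r))) (IsLocalization.Away.lift_eq _ hu _)
    rw [HomogeneousLocalization.algebraMap_apply]
    simp [HomogeneousLocalization.fromZeroRingHom, Localization.mk_one_eq_algebraMap]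
    rfl
  · rw [RingHom.comp_apply, dh, ZetaLib.dehom_of_mem _ _ ((mem_homogeneousSubmodule 1 _).mpr (isHomogeneous_X A j)),
      RingHom.comp_apply]
    set L := IsLocalization.Away.lift (S := Localization.Away (X i : MvPolynomial (Fin (n + 1)) A)) (X i) hu
    rw [HomogeneousLocalization.algebraMap_apply, HomogeneousLocalization.Away.val_mk, Localization.mk_eq_mk']
    have h := congrArg L (IsLocalization.mk'_spec (Localization.Away (X i : MvPolynomial (Fin (n + 1)) A)) (X j)
      (⟨(X i) ^ 1, 1, rfl⟩ : Submonoid.powers (X i : MvPolynomial (Fin (n + 1)) A)))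
    rw [map_mul, IsLocalization.Away.lift_eq, IsLocalization.Away.lift_eq] at h
    simpa using h

theorem toAway_bijective : Function.Bijective (toAway n A i) := by
  obtain ⟨φ, hφ⟩ := exists_leftInverse n A i
  have h : φ.comp (toAway n A i) = RingHom.id _ := by
    refine MvPolynomial.ringHom_ext (fun r => ?_) fun j => ?_
    · have := RingHom.congr_fun hφ (C r)
      simpa using this
    · have := RingHom.congr_fun hφ (X (i.succAbove j))
      simpa using this
  refine ⟨Function.LeftInverse.injective (g := φ) (RingHom.congr_fun h), fun y => ?_⟩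
  obtain ⟨x, rfl⟩ := ZetaLib.dehom_surjective (CohB1.polyGrading n A) (X_mem n A i) y
  exact ⟨ev n A i x, RingHom.congr_fun (toAway_comp_ev n A i) x⟩

theorem smooth_scal : RingHom.Smooth ((HomogeneousLocalization.fromZeroRingHom (CohB1.polyGrading n A)
    (Submonoid.powers (X i : MvPolynomial (Fin (n + 1)) A))).comp (algebraMap A (CohB1.polyGrading n A 0))) := by
  have e : (HomogeneousLocalization.fromZeroRingHom (CohB1.polyGrading n A)
      (Submonoid.powers (X i : MvPolynomial (Fin (n + 1)) A))).comp (algebraMap A (CohB1.polyGrading n A 0)) =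
      (RingEquiv.ofBijective (toAway n A i) (toAway_bijective n A i)).toRingHom.comp C := by
    ext r
    simp [← dh_C]
  rw [e]
  have h : RingHom.Smooth (C : A →+* MvPolynomial (Fin n) A) := by
    rw [show (C : A →+* MvPolynomial (Fin n) A) = algebraMap A (MvPolynomial (Fin n) A) from rfl,
      RingHom.smooth_algebraMap]
    constructor <;> infer_instance
  exact RingHom.Smooth.respectsIso.1 _ _ h

set_option backward.isDefEq.respectTransparency.types false in
theorem smooth_toSpec : Smooth (CohB1.ProjSpace.toSpec n A) := by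
  change Smooth (Proj.toSpecZero (CohB1.polyGrading n A) ≫
    Spec.map (CommRingCat.ofHom (algebraMap A (CohB1.polyGrading n A 0))))
  have hcov : ⨆ i : Fin (n + 1), Proj.basicOpen (CohB1.polyGrading n A) (X i) = ⊤ := by
    refine Proj.iSup_basicOpen_eq_top' _ _ (fun i => ⟨1, X_mem n A i⟩) ?_
    refine top_le_iff.mp fun p _ => ?_
    induction p using MvPolynomial.induction_on with
    | C a =>
      exact Subalgebra.algebraMap_mem _ (⟨MvPolynomial.C a, MvPolynomial.isHomogeneous_C _ _⟩ : CohB1.polyGrading n A 0)
    | add p q hp hq => exact add_mem (hp trivial) (hq trivial)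
    | mul_X p i hp => exact mul_mem (hp trivial) (Algebra.subset_adjoin ⟨i, rfl⟩)
  rw [IsZariskiLocalAtSource.iff_of_iSup_eq_top (P := @Smooth.{u}) _ hcov]
  intro i
  rw [← MorphismProperty.cancel_left_of_respectsIso (C := Scheme.{u}) @Smooth.{u}
    (Proj.basicOpenIsoSpec (CohB1.polyGrading n A) (X i) (X_mem n A i) one_pos).inv,
    Proj.basicOpenIsoSpec_inv_ι_assoc, Proj.awayι_toSpecZero_assoc, ← Spec.map_comp,
    HasRingHomProperty.Spec_iff (P := @Smooth.{u})]
  exact smooth_scal n A i

theorem smooth_toBase (S : Scheme.{u}) : Smooth (CohB1.ProjSpaceOver.toBase n S) := by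
  haveI := smooth_toSpec n (ULift.{u} ℤ)
  change Smooth (Limits.pullback.snd (CohB1.ProjSpace.toSpec n (ULift.{u} ℤ)) (specULiftZIsTerminal.from S))
  infer_instance

end Groth.Agent.CohOps.PnSmooth
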