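import Groth.Agent.DualCx.Comp
import Groth.Agent.DualCx.SchStalk
import Groth.Agent.KFlat.TildeD
import Groth.Agent.KFlat.RPushBase

/-!
# Restriction of `tilde` along maps of affine schemes
-/

set_option autoImplicit false
set_option backward.isDefEq.respectTransparency.types false
universe u

open CategoryTheory CategoryTheory.Limits AlgebraicGeometry Opposite

attribute [local instance] HasDerivedCategory.standard

namespace Groth.Agent.CohOps.TildeRestrict

/-- Global sections of a direct image. -/
noncomputable def pushΓIso {R S : CommRingCat.{u}} (φ : R ⟶ S) :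
    Scheme.Modules.pushforward (Spec.map φ) ⋙ moduleSpecΓFunctor (R := R) ≅
      moduleSpecΓFunctor (R := S) ⋙ ModuleCat.restrictScalars φ.hom :=
  (Functor.associator _ _ _).symm ≪≫
    Functor.isoWhiskerRight (pushforwardCompModulesSpecToSheafIso φ) _

/-- The pullback of `tilde M` is the tilde of the extension of scalars. -/
noncomputable def tildePullbackIso {R S : CommRingCat.{u}} (φ : R ⟶ S) :
    tilde.functor R ⋙ Scheme.Modules.pullback (Spec.map φ) ≅
      ModuleCat.extendScalars.{u, u, u} φ.hom ⋙ tilde.functor S :=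
  (((tilde.adjunction (R := R)).comp
      (Scheme.Modules.pullbackPushforwardAdjunction (Spec.map φ))).ofNatIsoRight (pushΓIso φ)).leftAdjointUniq
    ((ModuleCat.extendRestrictScalarsAdj.{u} φ.hom).comp (tilde.adjunction (R := S)))

/-- The restriction of `tilde M` to an open subscheme `Spec S`. -/
noncomputable def tildeRestrictIso {R S : CommRingCat.{u}} (φ : R ⟶ S) [IsOpenImmersion (Spec.map φ)] :
    tilde.functor R ⋙ Scheme.Modules.restrictFunctor (Spec.map φ) ≅
      ModuleCat.extendScalars.{u, u, u} φ.hom ⋙ tilde.functor S :=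
  Functor.isoWhiskerLeft _ (Scheme.Modules.restrictFunctorIsoPullback _) ≪≫ tildePullbackIso φ

section Derived

variable {C D D' E : Type*} [Category C] [Category D] [Category D'] [Category E]
  [Abelian C] [Abelian D] [Abelian D'] [Abelian E]
  [HasDerivedCategory C] [HasDerivedCategory D] [HasDerivedCategory D'] [HasDerivedCategory E]

/-- A commutative square of exact functors gives one of derived functors. -/
theorem nonempty_mapDerived_square (F : C ⥤ D) (G : D ⥤ E) (F' : C ⥤ D') (G' : D' ⥤ E)
    [F.Additive] [G.Additive] [F'.Additive] [G'.Additive]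
    [PreservesFiniteLimits F] [PreservesFiniteColimits F] [PreservesFiniteLimits G] [PreservesFiniteColimits G]
    [PreservesFiniteLimits F'] [PreservesFiniteColimits F'] [PreservesFiniteLimits G'] [PreservesFiniteColimits G']
    (e : F ⋙ G ≅ F' ⋙ G') (K : DerivedCategory C) :
    Nonempty (G.mapDerivedCategory.obj (F.mapDerivedCategory.obj K) ≅
      G'.mapDerivedCategory.obj (F'.mapDerivedCategory.obj K)) := by
  obtain ⟨L, ⟨i⟩⟩ : ∃ L : CochainComplex C ℤ, Nonempty (DerivedCategory.Q.obj L ≅ K) :=
    ⟨_, ⟨DerivedCategory.Q.objObjPreimageIso K⟩⟩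
  exact ⟨G.mapDerivedCategory.mapIso (F.mapDerivedCategory.mapIso i.symm ≪≫ F.mapDerivedCategoryFactors.app L) ≪≫
    G.mapDerivedCategoryFactors.app _ ≪≫
    DerivedCategory.Q.mapIso ((KFlat.RPushBase.mapCxComp F G _ ≪≫ NatIso.mapHomologicalComplex e _ ≪≫
      (KFlat.RPushBase.mapCxComp F' G' _).symm).app L) ≪≫
    (G'.mapDerivedCategoryFactors.app _).symm ≪≫
    G'.mapDerivedCategory.mapIso ((F'.mapDerivedCategoryFactors.app L).symm ≪≫ F'.mapDerivedCategory.mapIso i)⟩

/-- The derived functor of a composite of exact functors. -/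
theorem nonempty_mapDerived_comp (F : C ⥤ D) (G : D ⥤ E) (H : C ⥤ E)
    [F.Additive] [G.Additive] [H.Additive]
    [PreservesFiniteLimits F] [PreservesFiniteColimits F] [PreservesFiniteLimits G] [PreservesFiniteColimits G]
    [PreservesFiniteLimits H] [PreservesFiniteColimits H]
    (e : H ≅ F ⋙ G) (K : DerivedCategory C) :
    Nonempty (H.mapDerivedCategory.obj K ≅ G.mapDerivedCategory.obj (F.mapDerivedCategory.obj K)) := by
  obtain ⟨L, ⟨i⟩⟩ : ∃ L : CochainComplex C ℤ, Nonempty (DerivedCategory.Q.obj L ≅ K) :=
    ⟨_, ⟨DerivedCategory.Q.objObjPreimageIso K⟩⟩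
  exact ⟨H.mapDerivedCategory.mapIso i.symm ≪≫ H.mapDerivedCategoryFactors.app L ≪≫
    DerivedCategory.Q.mapIso ((NatIso.mapHomologicalComplex e _ ≪≫
      (KFlat.RPushBase.mapCxComp F G _).symm).app L) ≪≫
    (G.mapDerivedCategoryFactors.app _).symm ≪≫
    G.mapDerivedCategory.mapIso ((F.mapDerivedCategoryFactors.app L).symm ≪≫ F.mapDerivedCategory.mapIso i)⟩

end Derived

open DualCx.BaseChange (FD ext)

/-- The restriction of `(tildeD A) ω` to an open subscheme `Spec B` is `tildeD B` of `ω ⊗ B`. -/
theorem nonempty_restrictD_tildeD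
    [∀ (R : CommRingCat.{u}), PreservesFiniteLimits (tilde.functor R)]
    {A B : Type u} [CommRing A] [CommRing B] [Algebra A B] [Module.Flat A B]
    (g : Spec (CommRingCat.of B) ⟶ Spec (CommRingCat.of A)) [IsOpenImmersion g]
    [PreservesFiniteLimits (Scheme.Modules.restrictFunctor g)]
    (hg : g = Spec.map (CommRingCat.ofHom (algebraMap A B))) (ω : Dual.D A) :
    Nonempty ((DCoh.restrictD g).obj ((DCoh.tildeD (CommRingCat.of A)).obj ω) ≅
      (DCoh.tildeD (CommRingCat.of B)).obj ((FD A B).obj ω)) := by
  subst hg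
  haveI : ∀ R : CommRingCat.{u}, PreservesFiniteColimits (tilde.functor R) := fun R => by
    have : PreservesColimitsOfSize.{0, 0} (tilde.functor R) := (tilde.adjunction (R := R)).leftAdjoint_preservesColimits
    exact PreservesColimitsOfSize0.preservesFiniteColimits _
  haveI : ∀ R : CommRingCat.{u}, (tilde.functor R).Additive := fun R => Functor.additive_of_preserves_binary_products _
  exact nonempty_mapDerived_square (tilde.functor (CommRingCat.of A))
    (Scheme.Modules.restrictFunctor _) (ext A B) (tilde.functor (CommRingCat.of B))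
    (tildeRestrictIso (CommRingCat.ofHom (algebraMap A B))) ω

end Groth.Agent.CohOps.TildeRestrict
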