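import Groth.Agent.CohOps.Power
import Groth.Agent.CohDev.Loc
import Groth.Agent.KFlat.FlatPull

/-!
Deligne's lemma: morphisms defined off `V(I)` extend after multiplying by a power of `I`.
-/

universe u

open CategoryTheory Limits AlgebraicGeometry Opposite TopologicalSpace

noncomputable section

namespace Groth.Agent.CohOps.Deligne

open Groth.Agent.CohDev

variable {X : Scheme.{u}} [IsNoetherian X] (I : X.IdealSheafData) (U : X.Opens)

/-- `i_* i^* G` is killed by the ideal. -/
theorem killed_push_pull (J : X.IdealSheafData) (G : J.subscheme.Modules) :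
    Killed J ((Scheme.Modules.pushforward J.subschemeι).obj G) := by
  intro V a ha s
  have h0 : J.subschemeι.app V.1 a = 0 := by
    rw [← RingHom.mem_ker, J.ker_subschemeι_app V]
    exact ha
  change (J.subschemeι.app V.1 a) • (show Γ(G, J.subschemeι ⁻¹ᵁ V.1) from s) = 0
  rw [h0, zero_smul]

variable {I U}

theorem isIso_restrict_idealMulι (hU : (U : Set X) = (I.support : Set X)ᶜ) (n : ℕ) (G : X.Modules) :
    IsIso ((Scheme.Modules.restrictFunctor U.ι).map (Dual3.idealMulι (I ^ (n + 1)) G)) := by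
  let i := (I ^ (n + 1)).subschemeι
  let η := (Scheme.Modules.pullbackPushforwardAdjunction i).unit.app G
  have hz : IsZero ((Scheme.Modules.restrictFunctor U.ι).obj
      ((Scheme.Modules.pullback i ⋙ Scheme.Modules.pushforward i).obj G)) := by
    refine isZero_restrict_of_support U.ι ((support_subset_of_killed
      (killed_push_pull (I ^ (n + 1)) ((Scheme.Modules.pullback i).obj G))).trans ?_)
    rw [Scheme.IdealSheafData.support_pow_succ, Scheme.Opens.range_ι, hU, compl_compl]
  have h : IsIso (kernel.ι ((Scheme.Modules.restrictFunctor U.ι).map η)) := by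
    have : (Scheme.Modules.restrictFunctor U.ι).map η = 0 := hz.eq_of_tgt _ _
    exact kernel.ι_of_zero this
  rw [show (Scheme.Modules.restrictFunctor U.ι).map (Dual3.idealMulι (I ^ (n + 1)) G) =
    (PreservesKernel.iso (Scheme.Modules.restrictFunctor U.ι) η).hom ≫
      kernel.ι ((Scheme.Modules.restrictFunctor U.ι).map η) from (Iso.inv_comp_eq _).1 (PreservesKernel.iso_inv_ι _ _)]
  exact IsIso.comp_isIso' (Iso.isIso_hom _) h

/-- Submodules containing everything off `V(I)` contain a multiple by a power of `I`. -/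
theorem exists_lift_of_isIso_restrict (hU : (U : Set X) = (I.support : Set X)ᶜ) {A G : X.Modules}
    (r : A ⟶ G) [Mono r] (hA : Coh.IsQCoh A) (hG : Coh.IsCoh G)
    [Epi ((Scheme.Modules.restrictFunctor U.ι).map r)] (m : ℕ) :
    ∃ n : ℕ, m ≤ n ∧ ∃ l : (Dual3.idealMul (I ^ (n + 1))).obj G ⟶ A,
      l ≫ r = Dual3.idealMulι (I ^ (n + 1)) G := by
  have hQ := isCoh_cokernel r hA hG
  obtain ⟨n, hn⟩ := Power.exists_pow_killed hQ I (fun y hy => by
    by_contra hyI
    have hyU : y ∈ U := by rw [← SetLike.mem_coe, hU]; exact hyI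
    have hz : IsZero ((Scheme.Modules.restrictFunctor U.ι).obj (cokernel r)) :=
      (isZero_cokernel_of_epi _).of_iso (PreservesCokernel.iso (Scheme.Modules.restrictFunctor U.ι) r)
    refine hy (subsingleton_of_forall_eq 0 fun t => ?_)
    obtain ⟨W, hyW, a, rfl⟩ := PullStalk.Sky.exists_germM_eq (cokernel r) y t
    have : Subsingleton Γ((cokernel r).restrict U.ι, U.ι ⁻¹ᵁ W) :=
      AddCommGrpCat.subsingleton_of_isZero
        ((QCoh.sectionsFunctor (U : Scheme.{u}) (U.ι ⁻¹ᵁ W)).map_isZero hz)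
    have hle : U.ι ''ᵁ (U.ι ⁻¹ᵁ W) ≤ W := by
      rw [Scheme.Hom.image_preimage_eq_opensRange_inf]; exact inf_le_right
    have hy' : y ∈ U.ι ''ᵁ (U.ι ⁻¹ᵁ W) := ⟨⟨y, hyU⟩, hyW, rfl⟩
    exact ((cokernel r).presheaf.germ_res_apply (homOfLE hle) y hy' a).symm.trans
      ((congrArg ((cokernel r).presheaf.germ _ y hy')
        (@Subsingleton.elim Γ((cokernel r).restrict U.ι, U.ι ⁻¹ᵁ W) _ _ 0)).trans (map_zero _)))
  have hle : I ^ (max m n + 1) ≤ I ^ (n + 1) := by
    intro W
    rw [Scheme.IdealSheafData.ideal_pow, Scheme.IdealSheafData.ideal_pow, Pi.pow_apply, Pi.pow_apply]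
    exact Ideal.pow_le_pow_right (by omega)
  refine ⟨max m n, le_max_left _ _, Abelian.monoLift r (Dual3.idealMulι _ G) ?_, Abelian.monoLift_comp _ _ _⟩
  exact idealMulι_comp_eq_zero _ _ (killed_mono_ideal hle hn)

theorem exists_hom_extension (hU : (U : Set X) = (I.support : Set X)ᶜ) {F G : X.Modules}
    (hF : Coh.IsQCoh F) (hG : Coh.IsCoh G)
    (φ : (Scheme.Modules.restrictFunctor U.ι).obj G ⟶ (Scheme.Modules.restrictFunctor U.ι).obj F) :
    ∃ (n : ℕ) (ψ : (Dual3.idealMul (I ^ (n + 1))).obj G ⟶ F),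
      (Scheme.Modules.restrictFunctor U.ι).map ψ =
        (Scheme.Modules.restrictFunctor U.ι).map (Dual3.idealMulι (I ^ (n + 1)) G) ≫ φ := by
  let R := Scheme.Modules.restrictFunctor U.ι
  haveI : PreservesBinaryBiproducts R := preservesBinaryBiproducts_of_preservesBiproducts _
  haveI : G.IsQuasicoherent := hG.1
  have hGU : Coh.IsCoh (R.obj G) :=
    isCoh_of_iso ((Scheme.Modules.restrictFunctorIsoPullback U.ι).app G).symm
      (ZClosLib.CohDescent.isCoh_pullback U.ι G hG)
  obtain ⟨H, ψ, e, hH, he⟩ := exists_coh_extension U.ι (G ⊞ F) (isQCoh_biprod hG.1 hF) (R.obj G) hGU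
    (biprod.lift (𝟙 _) φ ≫ (R.mapBiprod G F).inv)
  let p : H ⟶ G := ψ ≫ biprod.fst
  let q : H ⟶ F := ψ ≫ biprod.snd
  have hp : R.map p = e.hom := by
    rw [Functor.map_comp, ← he]
    rw [Category.assoc, Category.assoc, (show (R.mapBiprod G F).inv ≫ R.map biprod.fst = biprod.fst from
      (Iso.inv_comp_eq _).2 (by rw [Functor.mapBiprod_hom, biprod.lift_fst])), biprod.lift_fst, Category.comp_id]
  have hq : R.map q = e.hom ≫ φ := by
    rw [Functor.map_comp, ← he]
    rw [Category.assoc, Category.assoc, (show (R.mapBiprod G F).inv ≫ R.map biprod.snd = biprod.snd from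
      (Iso.inv_comp_eq _).2 (by rw [Functor.mapBiprod_hom, biprod.lift_snd])), biprod.lift_snd]
  haveI : IsIso (R.map p) := by rw [hp]; infer_instance
  have hK := isCoh_kernel p hH hG.1
  obtain ⟨b, hb⟩ := Power.exists_pow_killed hK I (fun y hy => by
    by_contra hyI
    have hyU : y ∈ Set.range U.ι := by
      rw [Scheme.Opens.range_ι, hU]; exact hyI
    refine hy (subsingleton_of_forall_eq 0 fun t => stalk_injective (kernel.ι p) y ?_)
    rw [map_zero]
    refine (stalk_bijective_of_isIso_restrict U.ι p hyU).1 ?_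
    rw [map_zero, ← stalkLin_comp_apply, kernel.condition, stalkLin_zero_apply])
  obtain ⟨c, hc⟩ := exists_pow_mono_unit (kernel.ι p) hK hH _ hb
  let J := (I ^ (b + 1)) ^ (c + 1)
  have hJ : J = I ^ (((b + 1) * c + b) + 1) := by
    apply Scheme.IdealSheafData.ext
    rw [Scheme.IdealSheafData.ideal_pow, Scheme.IdealSheafData.ideal_pow,
      Scheme.IdealSheafData.ideal_pow, ← pow_mul]
    congr 1
  let r : (Dual3.idealMul J).obj H ⟶ G := Dual3.idealMulι J H ≫ p
  haveI : Mono r := Preadditive.mono_of_cancel_zero _ fun {T} w hw => by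
    have hwp : (w ≫ Dual3.idealMulι J H) ≫ p = 0 := by rw [Category.assoc]; exact hw
    have hv : kernel.lift p (w ≫ Dual3.idealMulι J H) hwp = 0 := by
      rw [← cancel_mono (kernel.ι p ≫ (Scheme.Modules.pullbackPushforwardAdjunction J.subschemeι).unit.app H)]
      rw [zero_comp, kernel.lift_ι_assoc, Category.assoc,
        show Dual3.idealMulι J H ≫ _ = 0 from kernel.condition _, comp_zero]
    rw [← cancel_mono (Dual3.idealMulι J H), zero_comp, ← kernel.lift_ι p _ hwp, hv, zero_comp]
  haveI : IsIso (R.map r) := by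
    rw [Functor.map_comp, hJ]
    haveI := isIso_restrict_idealMulι hU ((b + 1) * c + b) H
    infer_instance
  obtain ⟨n, -, l, hl⟩ := exists_lift_of_isIso_restrict hU r (isCoh_idealMul J hH).1 hG 0
  refine ⟨n, l ≫ Dual3.idealMulι J H ≫ q, ?_⟩
  rw [Functor.map_comp, Functor.map_comp, hq, ← hp, ← hl, Functor.map_comp, Functor.map_comp]
  simp only [r, p, R, Functor.map_comp, Category.assoc]

theorem exists_comp_eq_zero (hU : (U : Set X) = (I.support : Set X)ᶜ) {F G : X.Modules}
    (hF : Coh.IsQCoh F) (hG : Coh.IsCoh G) (n : ℕ) (ψ : (Dual3.idealMul (I ^ n)).obj G ⟶ F)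
    (hψ : (Scheme.Modules.restrictFunctor U.ι).map ψ = 0) :
    ∃ (N : ℕ) (ι : (Dual3.idealMul (I ^ N)).obj G ⟶ (Dual3.idealMul (I ^ n)).obj G),
      ι ≫ Dual3.idealMulι (I ^ n) G = Dual3.idealMulι (I ^ N) G ∧ ι ≫ ψ = 0 := by
  let R := Scheme.Modules.restrictFunctor U.ι
  have hn := isCoh_idealMul (I ^ n) hG
  let r : kernel ψ ⟶ G := kernel.ι ψ ≫ Dual3.idealMulι (I ^ n) G
  haveI : Epi (R.map (Dual3.idealMulι (I ^ n) G)) := by
    rcases n with _ | k
    · have : IsIso (Dual3.idealMulι (I ^ 0) G) := by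
        have hz : IsZero ((Scheme.Modules.pullback (I ^ 0).subschemeι ⋙
            Scheme.Modules.pushforward (I ^ 0).subschemeι).obj G) := by
          refine isZero_of_support_eq_empty (Set.subset_eq_empty
            (support_subset_of_killed (killed_push_pull (I ^ 0) _)) ?_)
          simp
        exact kernel.ι_of_zero (hz.eq_of_tgt _ _)
      infer_instance
    · haveI := isIso_restrict_idealMulι hU k G
      infer_instance
  haveI : Epi (R.map (kernel.ι ψ)) := by
    haveI : IsIso (kernel.ι (R.map ψ)) := kernel.ι_of_zero hψ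
    rw [(Iso.inv_comp_eq _).1 (PreservesKernel.iso_inv_ι R ψ)]
    infer_instance
  haveI : Epi (R.map r) := by rw [Functor.map_comp]; infer_instance
  obtain ⟨m, -, l, hl⟩ := exists_lift_of_isIso_restrict hU r (isCoh_kernel ψ hn hF).1 hG 0
  exact ⟨m + 1, l ≫ kernel.ι ψ, by rw [Category.assoc]; exact hl,
    by rw [Category.assoc, kernel.condition, comp_zero]⟩

end Groth.Agent.CohOps.Deligne
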