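import Groth.Agent.DualCx.LocalGlobal
import Groth.Agent.DualCx.Extended
import Groth.Agent.DualCx.Comp

/-!
# Being a dualizing complex is Zariski local on the ring
-/

set_option autoImplicit false
set_option linter.style.haveILetI false
universe u v

open CategoryTheory CategoryTheory.Limits
open scoped TensorProduct

attribute [local instance] HasDerivedCategory.standard

namespace Groth.Agent.CohOps.DualLocal

open Groth.Agent.DualCx
open Devissage (E pre)
open BaseChange (FD)

variable {A : Type u} [CommRing A]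

/-- If a localisation of `M` at a power of `f` vanishes, every element is killed by a power of `f`. -/
theorem exists_pow_smul_eq_zero (f : A) (B : Type u) [CommRing B] [Algebra A B] [IsLocalization.Away f B]
    (M : Type v) [AddCommGroup M] [Module A M] (h : Subsingleton (B ⊗[A] M)) (x : M) :
    ∃ n : ℕ, f ^ n • x = 0 := by
  obtain ⟨⟨_, n, rfl⟩, hn⟩ := (IsLocalizedModule.eq_zero_iff (Submonoid.powers f)
    (TensorProduct.mk A B M 1)).1 (@Subsingleton.elim _ h ((1 : B) ⊗ₜ[A] x) 0)
  exact ⟨n, hn⟩

/-- A complex which is dualizing near every prime is dualizing. -/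
theorem isDualizing_of_cover [IsNoetherianRing A] (K : Dual.D A)
    (h : ∀ p : PrimeSpectrum A, ∃ f : A, f ∉ p.1 ∧ ∃ (B : Type u) (_ : CommRing B) (_ : Algebra A B)
      (_ : IsLocalization.Away f B) (_ : Module.Flat A B), Dual.IsDualizing B ((FD A B).obj K)) :
    Dual.IsDualizing A K := by
  classical
  choose f hfp B hBr hBa hBl hBf hB using h
  obtain ⟨T, hT⟩ := isCompact_univ.elim_finite_subcover
    (fun p => (↑(PrimeSpectrum.basicOpen (f p)) : Set (PrimeSpectrum A)))
    (fun p => (PrimeSpectrum.basicOpen (f p)).2) (fun p _ => Set.mem_iUnion.2 ⟨p, hfp p⟩)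
  have hcov : ∀ q : PrimeSpectrum A, ∃ p ∈ T, f p ∉ q.1 := fun q => by
    have := hT (Set.mem_univ q)
    simp only [Set.mem_iUnion, exists_prop] at this
    exact this
  choose c d hcd using fun p => Residue.exists_cohomology_bounds (hB p)
  choose a' b' hab using fun p => (hB p).finite_injective_dimension
  obtain ⟨a, ha⟩ := (T.finite_toSet.image c).bddBelow
  obtain ⟨b, hb⟩ := (T.finite_toSet.image b').bddAbove
  have hge : K.IsGE a := by
    refine (DerivedCategory.isGE_iff K a).mpr fun i hi =>
      (DRing.DBasic.subsingleton_HD_iff_isZero K i).mp ⟨fun x y => ?_⟩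
    rw [← sub_eq_zero]
    by_contra hne
    obtain ⟨m, hm, hle⟩ := Ideal.exists_le_maximal (Ideal.torsionOf A _ (x - y)) fun htop => hne (by
      have := (Ideal.eq_top_iff_one _).1 htop
      simpa [Ideal.mem_torsionOf_iff] using this)
    obtain ⟨p, hp, hfm⟩ := hcov ⟨m, hm.isPrime⟩
    have : Subsingleton (B p ⊗[A] Dual.HD A K i) := by
      have := hcd p i (Or.inl (lt_of_lt_of_le hi (ha ⟨p, hp, rfl⟩)))
      exact (BaseChange.HDEquiv A (B p) K i).toEquiv.subsingleton
    obtain ⟨n, hn⟩ := exists_pow_smul_eq_zero (f p) (B p) _ this (x - y)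
    exact hfm (hm.isPrime.mem_of_pow_mem n (hle ((Ideal.mem_torsionOf_iff _ _).2 hn)))
  have hfin : ∀ i, Module.Finite A (Dual.HD A K i) := fun i => by
    let t : Finset A := T.image f
    have ht : Ideal.span (t : Set A) = ⊤ := by
      by_contra hne
      obtain ⟨m, hm, hle⟩ := Ideal.exists_le_maximal _ hne
      obtain ⟨p, hp, hfm⟩ := hcov ⟨m, hm.isPrime⟩
      exact hfm (hle (Ideal.subset_span (by exact Finset.mem_image_of_mem f hp)))
    have hg : ∀ g : t, ∃ p ∈ T, f p = g.1 := fun g => Finset.mem_image.1 g.2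
    choose P hPT hP using hg
    haveI : ∀ g : t, IsLocalization.Away g.1 (B (P g)) := fun g => hP g ▸ hBl (P g)
    haveI : ∀ g : t, IsLocalizedModule.Away g.1 (TensorProduct.mk A (B (P g)) (Dual.HD A K i) 1) :=
      fun g => inferInstance
    refine Module.Finite.of_localizationSpan_finite' t ht
      (Mₚ := fun g => B (P g) ⊗[A] Dual.HD A K i) (Rₚ := fun g => B (P g))
      (fun g => TensorProduct.mk A (B (P g)) (Dual.HD A K i) 1) fun g => ?_
    have := (hB (P g)).finite_cohomology i
    exact Module.Finite.equiv (BaseChange.HDEquiv A (B (P g)) K i).symm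
  refine LocalGlobal.isDualizing_of_local K a hfin b (fun i hi m hm => ⟨fun x y => ?_⟩) fun m hm => ?_
  · obtain ⟨p, hp, hfm⟩ := hcov ⟨m, hm.isPrime⟩
    have := hab p (B p ⊗[A] (A ⧸ m)) i (Or.inr (lt_of_le_of_lt (hb ⟨p, hp, rfl⟩) hi))
    have : Subsingleton (B p ⊗[A] E (A ⧸ m) K i) :=
      (FlatBC.homEquiv (B := B p) K a (A ⧸ m) i).toEquiv.subsingleton
    obtain ⟨n, hn⟩ := exists_pow_smul_eq_zero (f p) (B p) _ this (x - y)
    obtain ⟨t, c, hc, ht⟩ := hm.exists_inv (show f p ^ n ∉ m from fun h => hfm (hm.isPrime.mem_of_pow_mem n h))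
    rw [← sub_eq_zero]
    calc x - y = (t * f p ^ n + c) • (x - y) := by rw [ht, one_smul]
      _ = 0 := by rw [add_smul, mul_smul, hn, smul_zero, Dimfun.smul_E_eq_zero m i hc, add_zero]
  · obtain ⟨p, -, hfm⟩ := hcov ⟨m, hm.isPrime⟩
    let L := Localization.AtPrime m
    have hle : Submonoid.powers (f p) ≤ m.primeCompl := Submonoid.powers_le.2 hfm
    letI : Algebra (B p) L := IsLocalization.localizationAlgebraOfSubmonoidLe (B p) L _ _ hle
    haveI : IsScalarTower A (B p) L := IsLocalization.localization_isScalarTower_of_submonoid_le (B p) L _ _ hle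
    haveI := IsLocalization.isLocalization_of_submonoid_le (B p) L _ m.primeCompl hle
    haveI : Module.Flat (B p) L := IsLocalization.flat L (m.primeCompl.map (algebraMap A (B p)))
    have hd : Dual.IsDualizing L ((FD (B p) L).obj ((FD A (B p)).obj K)) :=
      Extended.isDualizing (hB p) fun q _ => IsLocalization.map_comap (m.primeCompl.map (algebraMap A (B p))) L q
    obtain ⟨e⟩ := Comp.nonempty_iso A (B p) L K
    exact FlatBC.isDualizing_of_iso e.symm hd

end Groth.Agent.CohOps.DualLocal
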