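import Groth.Agent.DualCx.TopModule
import Groth.Agent.Depth.Basic

/-!
# The lowest cohomology module of a normalized dualizing complex
-/

set_option autoImplicit false
universe u

open CategoryTheory IsLocalRing

attribute [local instance] HasDerivedCategory.standard

namespace Groth.Agent.CohOps.DualModule

open Groth.Agent.DualCx
open Dimfun (B Z deg)

variable {A : Type u} [CommRing A] [IsLocalRing A] [IsNoetherianRing A]
  {ω : Dual.D A} (hω : Dual.IsDualizing A ω) (hn : Dual.IsNormalized A ω)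
  (m : ℤ) (hvan : ∀ i, i < m → Subsingleton (Dual.HD A ω i))

include hω hn hvan

/-- The localisations of the lowest cohomology module. -/
theorem exists_at (p : PrimeSpectrum A) (hp : ¬ Z p (Dual.HD A ω m)) :
    ∃ h : ℕ, m = deg hω p - h ∧
      ((min 2 h : ℕ) : ℕ∞) ≤ LocCoh.depth (B p) (LocalizedModule p.1.primeCompl (Dual.HD A ω m)) ∧
      Module.supportDim (B p) (LocalizedModule p.1.primeCompl (Dual.HD A ω m)) ≤ ((h : ℕ) : WithBot ℕ∞) := by
  have hl := Normalized.isDualizing_loc hω p
  have hln := Normalized.isNormalized_loc hω p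
  obtain ⟨e⟩ := TopModule.nonempty_localized hω hn p m (m - deg hω p) (by omega)
  have hne : ¬ Subsingleton (Dual.HD (B p) (Normalized.loc hω p) (m - deg hω p)) := fun h =>
    hp ((Dimfun.Z_iff_localized p _).mpr e.toEquiv.subsingleton)
  have hle : m - deg hω p ≤ 0 := by
    by_contra h
    have := Normal.subsingleton_E_pos hl hln (B p) (m - deg hω p) (by omega)
    exact hne (Cx.homUnitEquivShift _ _).symm.toEquiv.subsingleton
  refine ⟨(deg hω p - m).toNat, by omega, ?_⟩
  have hj : -(((deg hω p - m).toNat : ℕ) : ℤ) = m - deg hω p := by omega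
  have hge : ∀ i : ℤ, i < -(((deg hω p - m).toNat : ℕ) : ℤ) →
      Subsingleton (Dual.HD (B p) (Normalized.loc hω p) i) := by
    intro i hi
    obtain ⟨e'⟩ := TopModule.nonempty_localized hω hn p (deg hω p + i) i rfl
    have := hvan (deg hω p + i) (by omega)
    exact e'.symm.toEquiv.subsingleton
  constructor
  · rw [show LocCoh.depth (B p) (LocalizedModule p.1.primeCompl (Dual.HD A ω m)) =
      LocCoh.depth (B p) (Dual.HD (B p) (Normalized.loc hω p) (m - deg hω p)) from Depth.idealDepth_congr e]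
    rw [← hj]
    exact TopModule.le_depth hl hln _ hge _ (min_le_left _ _) (min_le_right _ _)
  · rw [Module.supportDim_eq_of_equiv (e.trans (Cx.homUnitEquivShift _ _).symm)]
    refine (Dimfun.supportDim_E_le hl hln (B p) _).trans (le_of_eq ?_)
    rw [show (-(m - deg hω p)).toNat = (deg hω p - m).toNat by omega]

/-- Serre's condition `S_2`. -/
theorem hasSk_two : LocCoh.HasSk 2 A (Dual.HD A ω m) := by
  intro p hp
  let P : PrimeSpectrum A := ⟨p, hp⟩
  by_cases hZ : Z P (Dual.HD A ω m)
  · have : Subsingleton (LocalizedModule p.primeCompl (Dual.HD A ω m)) := (Dimfun.Z_iff_localized P _).mp hZ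
    rw [Module.supportDim_eq_bot_of_subsingleton]
    exact le_trans (min_le_right _ _) bot_le
  obtain ⟨h, -, hdep, hdim⟩ := exists_at hω hn m hvan P hZ
  refine le_trans ?_ (WithBot.coe_le_coe.mpr hdep)
  refine (min_le_min le_rfl hdim).trans (le_of_eq ?_)
  rcases le_total 2 h with h2 | h2
  · rw [min_eq_left h2, min_eq_left (by exact_mod_cast h2)]
    rfl
  · rw [min_eq_right h2, min_eq_right (by exact_mod_cast h2)]
    rfl

/-- Over a domain the lowest cohomology module is torsion free. -/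
theorem isTorsionFree [IsDomain A] : Module.IsTorsionFree A (Dual.HD A ω m) := by
  refine ⟨fun r hr y₁ y₂ he => ?_⟩
  have hr0 : r ≠ 0 := IsRegular.ne_zero hr
  rw [← sub_eq_zero]
  replace he : r • (y₁ - y₂) = 0 := by
    rw [smul_sub, sub_eq_zero]; exact he
  by_contra hy
  have := hω.finite_cohomology m
  obtain ⟨P, hP, hle⟩ := exists_le_isAssociatedPrime_of_isNoetherianRing A (y₁ - y₂) hy
  haveI : P.IsPrime := hP.isPrime
  let p : PrimeSpectrum A := ⟨P, inferInstance⟩
  have hrP : r ∈ P := hle (by rw [Submodule.mem_colon_singleton, Submodule.mem_bot]; exact he)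
  obtain ⟨-, z, hz⟩ := isAssociatedPrime_iff.1 hP
  have hz' : ∀ a, a ∈ P ↔ a • z = 0 := fun a => by rw [hz, Submodule.mem_colon_singleton, Submodule.mem_bot]
  have hZ : ¬ Z p (Dual.HD A ω m) := fun h => by
    obtain ⟨s, hs, hsz⟩ := h z
    exact hs ((hz' s).2 hsz)
  obtain ⟨h, hm, hdep, -⟩ := exists_at hω hn m hvan p hZ
  have hη : ((⊥ : Ideal A)) ∈ minimalPrimes A := ⟨⟨Ideal.isPrime_bot, le_rfl⟩, fun _ _ _ => bot_le⟩
  let η : PrimeSpectrum A := ⟨⊥, Ideal.isPrime_bot⟩
  have hlt : η < p := lt_of_le_of_ne bot_le fun h => hr0 (by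
    have := hrP
    rwa [show P = ⊥ from (congrArg PrimeSpectrum.asIdeal h).symm] at this)
  have hdeg : m ≤ deg hω η := by
    by_contra hlt'
    exact (Dimfun.not_Z_HD_iff_minimal hω η hη (deg hω η)).mpr rfl
      (@Dimfun.Z_of_subsingleton _ _ η _ _ _ (hvan _ (by omega)))
  have h1 : 1 ≤ h := by
    have := Dimfun.deg_lt hω hlt
    omega
  have hdep1 : (1 : ℕ∞) ≤ LocCoh.depth (B p) (LocalizedModule P.primeCompl (Dual.HD A ω m)) :=
    le_trans (by exact_mod_cast (le_min (by norm_num) h1 : 1 ≤ min 2 h)) hdep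
  haveI : Module.Finite (B p) (LocalizedModule P.primeCompl (Dual.HD A ω m)) := Normalized.finite_localized p _
  let z' := LocalizedModule.mkLinearMap P.primeCompl (Dual.HD A ω m) z
  have hne : z' ≠ 0 := fun h0 => by
    obtain ⟨c, hc⟩ := (IsLocalizedModule.eq_zero_iff P.primeCompl _).1 h0
    exact c.2 ((hz' c).2 hc)
  haveI : Nontrivial (LocalizedModule P.primeCompl (Dual.HD A ω m)) := ⟨⟨z', 0, hne⟩⟩
  obtain ⟨rs, hreg, hmem, hlen⟩ := Depth.exists_isWeaklyRegular_of_le_idealDepth
    (Depth.smul_top_ne_top_of_le_maximalIdeal le_rfl) (n := 1) hdep1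
  obtain ⟨a, rfl⟩ := List.length_eq_one_iff.1 hlen
  rw [RingTheory.Sequence.isWeaklyRegular_cons_iff] at hreg
  obtain ⟨b, t, rfl⟩ := IsLocalization.exists_mk'_eq P.primeCompl a
  have hb : b ∈ P := (IsLocalization.AtPrime.mk'_mem_maximal_iff (B p) P b t).1 (hmem _ (by simp))
  refine hne (hreg.1 ?_)
  change IsLocalization.mk' (B p) b t • z' = IsLocalization.mk' (B p) b t • 0
  rw [smul_zero]
  refine ((IsLocalization.map_units (B p) t).smul_left_cancel).1 ?_
  rw [smul_smul, IsLocalization.mk'_spec', smul_zero, algebraMap_smul, ← map_smul, (hz' b).1 hb, map_zero]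

end Groth.Agent.CohOps.DualModule
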