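import Groth.Agent.DualCx.SchStalk
import Groth.Agent.DualCx.TopModule
import Groth.Agent.Props.QStalk
import Groth.Agent.QCoh.FiniteType

/-!
# Stalks of the cohomology sheaves of a dualizing complex as cohomology of local dualizing complexes
-/

set_option autoImplicit false
set_option backward.isDefEq.respectTransparency.types false
set_option maxHeartbeats 800000
universe u

open CategoryTheory CategoryTheory.Limits AlgebraicGeometry IsLocalRing
open scoped TensorProduct

attribute [local instance] HasDerivedCategory.standard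

namespace Groth.Agent.CohOps.DualStalk

open Groth.Agent.DualCx

variable {X : Scheme.{u}} [∀ (U : Scheme.{u}) (j : U ⟶ X) [IsOpenImmersion j], PreservesFiniteLimits (Scheme.Modules.restrictFunctor j)]
  [∀ (R : CommRingCat.{u}), PreservesFiniteLimits (tilde.functor R)]

theorem chart_homology {A : Type u} [CommRing A] (j : Spec (CommRingCat.of A) ⟶ X) [IsOpenImmersion j]
    {K : DCoh.D X} {ω : Dual.D A} (e : (DCoh.restrictD j).obj K ≅ (DCoh.tildeD (CommRingCat.of A)).obj ω) (i : ℤ) :
    Nonempty ((Scheme.Modules.restrictFunctor j).obj (DCoh.HD K i) ≅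
      (tilde.functor (CommRingCat.of A)).obj ((DerivedCategory.homologyFunctor (ModuleCat.{u} A) i).obj ω)) := by
  haveI : (tilde.functor (CommRingCat.of A)).Additive := Functor.additive_of_preserves_binary_products _
  haveI : PreservesFiniteColimits (tilde.functor (CommRingCat.of A)) := by
    have : PreservesColimitsOfSize.{0, 0} (tilde.functor (CommRingCat.of A)) :=
      (tilde.adjunction (R := CommRingCat.of A)).leftAdjoint_preservesColimits
    exact PreservesColimitsOfSize0.preservesFiniteColimits _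
  obtain ⟨e1⟩ := SchStalk.nonempty_homology_iso (Scheme.Modules.restrictFunctor j) K i
  obtain ⟨e2⟩ := SchStalk.nonempty_homology_iso (tilde.functor (CommRingCat.of A)) ω i
  exact ⟨e1.symm ≪≫ (DerivedCategory.homologyFunctor _ i).mapIso e ≪≫ e2⟩

theorem isQuasicoherent_HD {K : DCoh.D X} (hK : Dual2.IsDualizingSch X K) (i : ℤ) :
    (DCoh.HD K i).IsQuasicoherent := by
  refine QCoh.isQuasicoherent_of_forall_exists _ fun x => ?_
  obtain ⟨V, hV, hxV, -⟩ := exists_isAffineOpen_mem_and_subset (X := X) (TopologicalSpace.Opens.mem_top x)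
  haveI := hV.isOpenImmersion_fromSpec
  obtain ⟨ω, -, ⟨e⟩⟩ := hK Γ(X, V) hV.fromSpec
  obtain ⟨e1⟩ := chart_homology hV.fromSpec e i
  haveI : (tilde ((DerivedCategory.homologyFunctor (ModuleCat.{u} Γ(X, V)) i).obj ω) :
      (Spec (CommRingCat.of Γ(X, V))).Modules).IsQuasicoherent := inferInstance
  exact ⟨V, hV, hxV, @QCoh.isQuasicoherent_of_iso _ _ _ e1.symm this⟩

theorem exists_linearEquiv_sections {K : DCoh.D X} {V : X.Opens} (hV : IsAffineOpen V)
    {ω : Dual.D Γ(X, V)} [IsOpenImmersion hV.fromSpec]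
    (e : (DCoh.restrictD hV.fromSpec).obj K ≅ (DCoh.tildeD (CommRingCat.of Γ(X, V))).obj ω) (i : ℤ) :
    Nonempty (Dual.HD Γ(X, V) ω i ≃ₗ[Γ(X, V)] Γ(DCoh.HD K i, V)) := by
  obtain ⟨e1⟩ := chart_homology hV.fromSpec e i
  let N : ModuleCat.{u} Γ(X, V) := (DerivedCategory.homologyFunctor (ModuleCat.{u} Γ(X, V)) i).obj ω
  let e2 : N ≅ (moduleSpecΓFunctor (R := Γ(X, V))).obj (QCoh.toSpec hV (DCoh.HD K i)) :=
    (tilde.toTildeΓNatIso (R := Γ(X, V))).app N ≪≫ (moduleSpecΓFunctor (R := Γ(X, V))).mapIso e1.symm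
  exact ⟨e2.toLinearEquiv.trans (QCoh.toSpecTopLinearEquiv hV (DCoh.HD K i))⟩

/-- At every point, a normalized dualizing complex of the local ring computes the stalks of the
cohomology sheaves, up to a shift of degrees. -/
theorem exists_local [IsLocallyNoetherian X] {K : DCoh.D X} (hK : Dual2.IsDualizingSch X K) (x : X) :
    ∃ (s : ℤ) (ω : Dual.D (X.presheaf.stalk x)), Dual.IsDualizing (X.presheaf.stalk x) ω ∧
      Dual.IsNormalized (X.presheaf.stalk x) ω ∧
      ∀ i : ℤ, Nonempty ((DCoh.HD K (s + i)).presheaf.stalk x ≃ₗ[X.presheaf.stalk x] Dual.HD (X.presheaf.stalk x) ω i) := by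
  obtain ⟨V, hV, hxV, -⟩ := exists_isAffineOpen_mem_and_subset (X := X) (TopologicalSpace.Opens.mem_top x)
  haveI := hV.isOpenImmersion_fromSpec
  obtain ⟨ω, hω, ⟨e⟩⟩ := hK Γ(X, V) hV.fromSpec
  have := hω.isNoetherianRing
  letI := X.presheaf.algebra_section_stalk ⟨x, hxV⟩
  let p := (hV.primeIdealOf ⟨x, hxV⟩).asIdeal
  haveI : IsLocalization.AtPrime (X.presheaf.stalk x) p := hV.isLocalization_stalk ⟨x, hxV⟩
  haveI : Module.Flat Γ(X, V) (X.presheaf.stalk x) := IsLocalization.flat _ p.primeCompl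
  haveI : IsNoetherianRing (X.presheaf.stalk x) := IsLocalization.isNoetherianRing p.primeCompl _ inferInstance
  have hd : Dual.IsDualizing (X.presheaf.stalk x) ((BaseChange.FD Γ(X, V) (X.presheaf.stalk x)).obj ω) :=
    Extended.isDualizing hω fun M _ => IsLocalization.map_under p.primeCompl (X.presheaf.stalk x) M
  obtain ⟨s, hs⟩ := Normalized.exists_isNormalized hd
  refine ⟨s, _, Normalized.isDualizing_shift hd s, hs, fun i => ?_⟩
  obtain ⟨eS⟩ := exists_linearEquiv_sections hV e (s + i)
  haveI := isQuasicoherent_HD hK (s + i)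
  letI := Props.QStalk.moduleSections (DCoh.HD K (s + i)) hxV
  haveI : IsScalarTower Γ(X, V) (X.presheaf.stalk x) ((DCoh.HD K (s + i)).presheaf.stalk x) :=
    IsScalarTower.of_algebraMap_smul fun _ _ ↦ rfl
  haveI : IsLocalizedModule p.primeCompl (Props.QStalk.germLin (DCoh.HD K (s + i)) hxV) :=
    Props.QStalk.isLocalizedModule_germLin (DCoh.HD K (s + i)) hxV hV
  have hb : IsBaseChange (X.presheaf.stalk x) (Props.QStalk.germLin (DCoh.HD K (s + i)) hxV) :=
    IsLocalizedModule.isBaseChange p.primeCompl (X.presheaf.stalk x) _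
  exact ⟨hb.equiv.symm.trans ((TensorProduct.AlgebraTensorModule.congr (LinearEquiv.refl _ _) eS.symm).trans
    ((BaseChange.HDEquiv Γ(X, V) (X.presheaf.stalk x) ω (s + i)).trans
      ((Cx.homUnitEquivShift _ (s + i)).symm.trans
        ((Normalized.shiftE (X.presheaf.stalk x) _ s i (s + i) rfl).symm.trans
          (Cx.homUnitEquivShift _ i)))))⟩

end Groth.Agent.CohOps.DualStalk
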