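import Groth.Agent.Props.QFP
import Groth.Prelude.Def_CohB1

/-!
Finitely presented modules are coherent.
-/

universe u

open CategoryTheory Limits AlgebraicGeometry Opposite TopologicalSpace

noncomputable section

namespace Groth.Agent.CohOps.FP

open Groth.Agent.QCoh

variable {X : Scheme.{u}}

/-- Finitely presented modules are quasi-coherent of finite type. -/
theorem isCoh_of_isFP (M : X.Modules) [SheafOfModules.IsFinitePresentation.{u} M] : Coh.IsCoh M := by
  have h₁ : M.IsQuasicoherent := inferInstance
  have h₂ : SheafOfModules.IsFiniteType.{u} M := inferInstance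
  exact ⟨h₁, h₂⟩

end Groth.Agent.CohOps.FP
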