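import Groth.Prelude.Def_MoreMor
import Groth.Prelude.Def_FlatMod2
import Groth.Agent.PCohD.ThickGen
import Groth.Agent.PCohD.FTFP
import Groth.Agent.ConsPairLib.ModLoci
import Groth.Agent.FDesc.Stalk
import Groth.Agent.CBC.Stage
import Groth.Agent.KFlat.LocFree
import Groth.Agent.Omega.ConormalBC
import Groth.Agent.Omega.Thick
import Groth.Agent.Omega.ThickDiff
import Groth.Agent.Omega.Stalks
import Mathlib.RingTheory.Flat.Equalizer
import Mathlib.LinearAlgebra.TensorProduct.Quotient

/-!
# Finite presentation of flat modules is detected modulo a square zero ideal of the base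
-/

set_option autoImplicit false
set_option backward.isDefEq.respectTransparency.types false

universe u

open CategoryTheory CategoryTheory.Limits AlgebraicGeometry TopologicalSpace
open scoped TensorProduct
attribute [local instance] HasDerivedCategory.standard

noncomputable section

namespace Groth.Agent.CohOps.FPThick

open Groth.Agent.PullStalk Groth.Agent.PCohD

/-- For a surjection onto a module flat over `B`, the kernel stays injective modulo `I`. -/
theorem mem_smul_ker {B A L M : Type u} [CommRing B] [CommRing A] (σ : B →+* A) [AddCommGroup L]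
    [Module A L] [AddCommGroup M] [Module A M] (p : L →ₗ[A] M) (hp : Function.Surjective p)
    (hM : letI := Module.compHom M σ; Module.Flat B M) (I : Ideal B) {k : L} (hk : p k = 0)
    (hk' : k ∈ I.map σ • (⊤ : Submodule A L)) : k ∈ I.map σ • LinearMap.ker p := by
  let := σ.toAlgebra
  let : Module B L := Module.compHom L σ
  let : Module B M := Module.compHom M σ
  have : Module.Flat B M := hM
  have : IsScalarTower B A L := IsScalarTower.of_algebraMap_smul fun _ _ => rfl
  have : IsScalarTower B A M := IsScalarTower.of_algebraMap_smul fun _ _ => rfl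
  let pB := p.restrictScalars B
  have hinj := LinearMap.lTensor_injective_of_exact_of_flat pB hp (LinearMap.ker pB).subtype
    (LinearMap.ker pB).injective_subtype (LinearMap.exact_subtype_ker_map pB) (B ⧸ I)
  have hk'' : k ∈ I • (⊤ : Submodule B L) := by
    rw [← Submodule.restrictScalars_top B A L, ← Ideal.smul_restrictScalars]
    exact hk'
  let c : LinearMap.ker pB := ⟨k, hk⟩
  have h0 : (TensorProduct.quotTensorEquivQuotSMul _ I).symm (Submodule.Quotient.mk c) =
      (0 : (B ⧸ I) ⊗[B] LinearMap.ker pB) := by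
    refine hinj ?_
    rw [map_zero, TensorProduct.quotTensorEquivQuotSMul_symm_mk, LinearMap.lTensor_tmul,
      ← TensorProduct.quotTensorEquivQuotSMul_symm_mk]
    exact (congrArg (TensorProduct.quotTensorEquivQuotSMul L I).symm
      ((Submodule.Quotient.mk_eq_zero _).mpr hk'')).trans (map_zero _)
  have hc : c ∈ I • (⊤ : Submodule B (LinearMap.ker pB)) :=
    (Submodule.Quotient.mk_eq_zero _).mp ((LinearEquiv.map_eq_zero_iff _).mp h0)
  have h1 := Submodule.mem_map_of_mem (f := (LinearMap.ker pB).subtype) hc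
  rw [Submodule.map_smul'', Submodule.map_subtype_top] at h1
  show k ∈ (I.map σ • LinearMap.ker p).restrictScalars B
  exact (Ideal.smul_restrictScalars I (LinearMap.ker p)).ge h1

variable {X X' T T' : Scheme.{u}} {i : X ⟶ X'} {q : X ⟶ T} {q' : X' ⟶ T'} {t : T ⟶ T'}

/-- The unit kills exactly the multiples of the kernel. -/
theorem mem_ker_smul_of_unitStalkHom_eq_zero (hsurj : ∀ x, Function.Surjective (i.stalkMap x).hom)
    (M : X'.Modules) (x : X) {l : M.presheaf.stalk (i x)} (hl : Basic.unitStalkHom i M x l = 0) :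
    l ∈ RingHom.ker (i.stalkMap x).hom • (⊤ : Submodule (X'.presheaf.stalk (i x)) (M.presheaf.stalk (i x))) := by
  let A := X'.presheaf.stalk (i x)
  let := (i.stalkMap x).hom.toAlgebra
  let := Basic.moduleOver i M x
  have : IsScalarTower A (X.presheaf.stalk x) (((Scheme.Modules.pullback i).obj M).presheaf.stalk x) :=
    IsScalarTower.of_algebraMap_smul fun _ _ => rfl
  let ε : (A ⧸ RingHom.ker (i.stalkMap x).hom) ≃ₐ[A] X.presheaf.stalk x :=
    Ideal.quotientKerAlgEquivOfSurjective (f := Algebra.ofId A (X.presheaf.stalk x)) (hsurj x)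
  have h1 : (1 : X.presheaf.stalk x) ⊗ₜ[A] l = 0 := by
    apply (Basic.isBaseChange_unitStalk i M x).equiv.injective
    rw [map_zero, IsBaseChange.equiv_tmul, one_smul]
    exact hl
  have h2 := congrArg (TensorProduct.congr ε.toLinearEquiv (LinearEquiv.refl A (M.presheaf.stalk (i x)))).symm h1
  rw [map_zero, TensorProduct.congr_symm_tmul] at h2
  change (ε.symm 1) ⊗ₜ[A] l = 0 at h2
  rw [map_one] at h2
  have h3 := congrArg (TensorProduct.quotTensorEquivQuotSMul (M.presheaf.stalk (i x))
    (RingHom.ker (i.stalkMap x).hom)) h2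
  rw [map_zero, TensorProduct.quotTensorEquivQuotSMul_mk_one_tmul] at h3
  exact (Submodule.Quotient.mk_eq_zero _).mp h3

/-- Inverse images along a base change of a thickening keep short exact sequences with flat quotient
short exact. -/
theorem mono_pullback_map (hsurj : ∀ x, Function.Surjective (i.stalkMap x).hom)
    (hker : ∀ x, ∃ I : Ideal (T'.presheaf.stalk (q' (i x))),
      RingHom.ker (i.stalkMap x).hom = I.map (q'.stalkMap (i x)).hom)
    {S : ShortComplex X'.Modules} (hS : S.ShortExact) (hflat : FlatMod.IsFlatOver q' S.X₃) :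
    Mono ((Scheme.Modules.pullback i).map S.f) := by
  refine Omega.Stalks.mono_of_stalk fun x => ?_
  let A := X'.presheaf.stalk (i x)
  let := (i.stalkMap x).hom.toAlgebra
  let := Basic.moduleOver i S.X₁ x
  have : IsScalarTower A (X.presheaf.stalk x) (((Scheme.Modules.pullback i).obj S.X₁).presheaf.stalk x) :=
    IsScalarTower.of_algebraMap_smul fun _ _ => rfl
  obtain ⟨hinj, hex, hs⟩ := Exact.stalk_exact hS (i x)
  obtain ⟨I, hI⟩ := hker x
  rw [injective_iff_map_eq_zero]
  intro w hw
  obtain ⟨k, hk⟩ := TensorProduct.mk_surjective A (S.X₁.presheaf.stalk (i x)) (X.presheaf.stalk x)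
    (hsurj x) ((Basic.isBaseChange_unitStalk i S.X₁ x).equiv.symm w)
  have hwk : Basic.unitStalkHom i S.X₁ x k = w := by
    have := (LinearEquiv.eq_symm_apply _).1 hk
    rwa [TensorProduct.mk_apply, IsBaseChange.equiv_tmul, one_smul] at this
  subst hwk
  rw [Omega.ThickDiff.stalkLin_pullback_map] at hw
  have hmem := mem_ker_smul_of_unitStalkHom_eq_zero hsurj _ x hw
  rw [hI] at hmem
  have h2 := mem_smul_ker (q'.stalkMap (i x)).hom (Exact.stalkLin S.g (i x)) hs (hflat (i x)) I
    (hex.apply_apply_eq_zero k) hmem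
  rw [(LinearMap.exact_iff.mp hex : _ = _), ← hI, ← Submodule.map_top, ← Submodule.map_smul''] at h2
  obtain ⟨k', hk', hkk⟩ := h2
  obtain rfl : k' = k := hinj hkk
  refine Submodule.smul_induction_on hk' (fun a ha n _ => ?_) fun a b ha hb => ?_
  · rw [Basic.unitStalkHom_smul, RingHom.mem_ker.mp ha, zero_smul]
  · rw [map_add, ha, hb, add_zero]

/-- A flat module whose restriction to a first order thickening of the base is finitely presented is
finitely presented. -/
theorem isFP_of_isFP_pullback (hsq : IsPullback i q q' t) (ht : MoreMor.IsFirstOrderThickening t)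
    (F : X'.Modules) (hF : FlatMod.IsFlatOver q' F)
    (h : CohB1.IsFP ((Scheme.Modules.pullback i).obj F)) : CohB1.IsFP F := by
  obtain ⟨hthick, hk⟩ := Omega.Thick.isFOT_of_isPullback ht hsq
  have hi : Thick.IsNilThick i :=
    Thick.isNilThick_of_finiteOrder ⟨hthick, 2, (pow_two i.ker).trans hk⟩
  have := hi.closed
  have : IsClosedImmersion t := ht.1.1
  let G := (Scheme.Modules.pullback i).obj F
  have : SheafOfModules.IsFinitePresentation (R := X.ringCatSheaf) G := h
  have hGq : Coh.IsQCoh G := inferInstanceAs (SheafOfModules.IsQuasicoherent (R := X.ringCatSheaf) G)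
  refine (FTFP.pc_neg_one_iff F).1 (pc_of_local fun y => ?_)
  obtain ⟨x, rfl⟩ := hi.surj.surj y
  -- a quotient of a free module near `i x`
  obtain ⟨V₀, n₀, p₀, hx₀, hp₀⟩ := FTFP.locGen_of_isFT (F := G)
    (inferInstanceAs (SheafOfModules.IsFiniteType (R := X.ringCatSheaf) G)) x
  obtain ⟨O, n₁, b, hxO, hb⟩ := Thick.exists_spans_of_epi G V₀ (S0923.isFinLocFree_freeMod n₀) p₀ x hx₀
  obtain ⟨V₁, a, hxV₁, ha⟩ := Thick.exists_spans hi F b hb x hxO
  obtain ⟨P, p₁, hP, hp₁⟩ := ha.exists_epi
  obtain ⟨V, n, p, hxV, hp⟩ := FTFP.exists_free_epi (F := F) V₁.ι hP p₁ ⟨i x, hxV₁⟩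
  refine ⟨V, V.ι, inferInstance, ⟨⟨i x, hxV⟩, rfl⟩,
    pc_of_iso (PerfTri.Regular.restrInD V.ι F).symm (FTFP.pc_of_kernel p ?_)⟩
  refine (FTFP.pc_zero_iff _).2 (FTFP.isFT_of_locGen fun v => ?_)
  let j := i.resLE V (i ⁻¹ᵁ V) le_rfl
  have hj : Thick.IsNilThick j := hi.resLE V
  have hsqV : IsPullback j ((i ⁻¹ᵁ V).ι ≫ q) (V.ι ≫ q') t := by
    rw [show j = i ∣_ V from Scheme.Hom.resLE_eq_morphismRestrict _]
    exact (isPullback_morphismRestrict i V).paste_vert hsq
  have := hj.closed
  have hker : ∀ z, ∃ I : Ideal (T'.presheaf.stalk ((V.ι ≫ q') (j z))),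
      RingHom.ker (j.stalkMap z).hom = I.map ((V.ι ≫ q').stalkMap (j z)).hom := fun z => by
    refine ⟨(RingHom.ker (t.stalkMap (((i ⁻¹ᵁ V).ι ≫ q) z)).hom).map
      (T'.presheaf.stalkSpecializes (Specializes.of_eq (congr($(hsqV.w.symm) z)).symm)).hom, ?_⟩
    rw [Omega.ConormalBC.ker_stalkMap_eq_map hsqV hsqV.w.symm z, Omega.StalkSeq.σ, CommRingCat.hom_comp]
    exact (Ideal.map_map _ _).symm
  have hflat : FlatMod.IsFlatOver (V.ι ≫ q') (F.restrict V.ι) := fun z =>
    (CBC.isFlatOverAt_congr_iso (V.ι ≫ q') ((Scheme.Modules.restrictFunctorIsoPullback V.ι).app F).symm z).1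
      ((FDesc.Stalk.flatOverAt_pullback_iff V.ι q' F z (Flat.stalkMap V.ι z)).2 (hF _))
  have hmono := mono_pullback_map hj.stalk_surjective hker (FTFP.kerSeq p) hflat
  have hFj : CohB1.IsFP ((Scheme.Modules.pullback j).obj (F.restrict V.ι)) := by
    have h1 := (ConsPairLib.isFP_pullback (i ⁻¹ᵁ V).ι G h).2
    exact (SheafOfModules.isFinitePresentation (i ⁻¹ᵁ V).toScheme.ringCatSheaf).prop_of_iso
      (((Scheme.Modules.restrictFunctorIsoPullback (i ⁻¹ᵁ V).ι).app G).symm ≪≫
        KFlat.LocFree.restrictPullIso i V (i ⁻¹ᵁ V) le_rfl F) h1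
  let S := (ShortComplex.mk (kernel.ι p) p (kernel.condition p)).map (Scheme.Modules.pullback j)
  have : (Scheme.Modules.pullback j).IsLeftAdjoint :=
    (Scheme.Modules.pullbackPushforwardAdjunction j).isLeftAdjoint
  have : PreservesFiniteColimits (Scheme.Modules.pullback j) := inferInstance
  have hS : S.ShortExact :=
    { exact := (FTFP.kerSeq p).exact.map_of_epi_of_preservesCokernel _ hp inferInstance
      mono_f := hmono
      epi_g := inferInstanceAs (Epi ((Scheme.Modules.pullback j).map p)) }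
  obtain ⟨δ, hT⟩ := FTFP.exists_triangle hS
  have hK : CohB1.IsFT ((Scheme.Modules.pullback j).obj (kernel p)) :=
    (FTFP.pc_zero_iff _).1 (pc₁ (m := -1) _ hT
      (pc_of_iso ((DerivedCategory.singleFunctor _ 0).mapIso (KFlat.LocFree.pullFreeIso j n).symm)
        (FTFP.pc_free n _))
      ((FTFP.pc_neg_one_iff _).2 hFj))
  obtain ⟨w, rfl⟩ := hj.surj.surj v
  obtain ⟨W₀, k₀, r₀, hw₀, hr₀⟩ := FTFP.locGen_of_isFT hK w
  obtain ⟨O', k₁, c, hwO', hc⟩ := Thick.exists_spans_of_epi _ W₀ (S0923.isFinLocFree_freeMod k₀) r₀ w hw₀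
  obtain ⟨W₁, d, hwW₁, hd⟩ := Thick.exists_spans hj (kernel p) c hc w hwO'
  obtain ⟨Q, r₁, hQ, hr₁⟩ := hd.exists_epi
  obtain ⟨W, k, r, hwW, hr⟩ := FTFP.exists_free_epi (F := kernel p) W₁.ι hQ r₁ ⟨j w, hwW₁⟩
  exact ⟨W, k, r, hwW, hr⟩

end Groth.Agent.CohOps.FPThick
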