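import Groth.Agent.DualCx.GorFibre
import Groth.Agent.DualCx.Smooth
import Groth.Agent.DualCx.ShriekExists
import Groth.Agent.DualCx.Gorenstein
import Groth.Agent.DualCx.Locus
import Groth.Agent.EGA4Lib.RegLocus
import Groth.Agent.AlgSp.GorCore

/-!
# The Gorenstein locus of a flat morphism over a Noetherian base
-/

set_option autoImplicit false
set_option maxHeartbeats 1600000
universe u

open CategoryTheory IsLocalRing

attribute [local instance] HasDerivedCategory.standard

namespace Groth.Agent.CohOps.GorLocus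

open Groth.Agent.DualCx

/-- `B_q / pB_q` is Gorenstein, `p` the prime under `q`. -/
def GP (A B : Type u) [CommRing A] [CommRing B] [Algebra A B] (q : PrimeSpectrum B) : Prop :=
  LocCoh.IsGorensteinLocalRing (Localization.AtPrime q.asIdeal ⧸
    (q.asIdeal.comap (algebraMap A B)).map (algebraMap A (Localization.AtPrime q.asIdeal)))

variable {A B : Type u} [CommRing A] [CommRing B] [Algebra A B] [Module.Flat A B]
  [IsNoetherianRing A] [IsNoetherianRing B]

section Local

variable {ω : Dual.D A} (hω : Dual.IsDualizing A ω) (L : Type u) [CommRing L] [IsLocalRing L]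
  [IsNoetherianRing L] [Algebra A L] [Module.Flat A L]

include hω

/-- For a flat local algebra, the base change of a dualizing complex is dualizing iff the closed
fibre is Gorenstein. -/
theorem isDualizing_iff_gorenstein (p : PrimeSpectrum A) (hp : (maximalIdeal L).comap (algebraMap A L) = p.1) :
    Dual.IsDualizing L ((BaseChange.FD A L).obj ω) ↔
      LocCoh.IsGorensteinLocalRing (L ⧸ p.1.map (algebraMap A L)) := by
  have hne : p.1.map (algebraMap A L) ≠ ⊤ :=
    ne_top_of_le_ne_top (maximalIdeal.isMaximal L).ne_top (Ideal.map_le_iff_le_comap.2 hp.ge)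
  have : Nontrivial (L ⧸ p.1.map (algebraMap A L)) := Ideal.Quotient.nontrivial_iff.mpr hne
  have : IsLocalRing (L ⧸ p.1.map (algebraMap A L)) := .of_surjective' _ Ideal.Quotient.mk_surjective
  obtain ⟨n, hn⟩ := Gor.Basic.exists_natCast_ringKrullDim (A := L ⧸ p.1.map (algebraMap A L))
  have hH := GorFibre.H_of_flat hω p hp
  constructor
  · intro hK
    obtain ⟨m, hm⟩ := Normalized.exists_isNormalized hK
    refine Fiber.gorenstein (Normalized.isDualizing_shift hK m) hm n _ (Dimfun.deg hω p - m) hne hn ⟨fun i hi => ?_, ?_⟩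
    · have := hH.1 (m + i) (by omega)
      exact (Normalized.shiftE _ _ m i (m + i) rfl).toEquiv.subsingleton
    · obtain ⟨e⟩ := hH.2
      exact ⟨(Normalized.shiftE _ _ m _ _ (by omega)).trans e⟩
  · intro hG
    obtain ⟨a, ha⟩ := Dimfun.exists_isGE hω
    have : ((BaseChange.FD A L).obj ω).IsGE a := FlatBC.isGE_FD ω a
    obtain ⟨hv, ⟨e⟩⟩ := Fiber.residue a n _ _ hG hn hH
    refine Biduality.isDualizing _ a (fun i => ?_) (Dimfun.deg hω p + n) fun m' hm' => ?_
    · have := hω.finite_cohomology i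
      exact Module.Finite.equiv (BaseChange.HDEquiv A L ω i)
    · obtain rfl := IsLocalRing.eq_maximalIdeal hm'
      exact ⟨_, le_rfl, hv, ⟨e⟩⟩

end Local

theorem isDualizing_iff_GP {ω : Dual.D A} (hω : Dual.IsDualizing A ω) (q : PrimeSpectrum B) :
    Dual.IsDualizing (Localization.AtPrime q.asIdeal) ((BaseChange.FD A (Localization.AtPrime q.asIdeal)).obj ω) ↔
      GP A B q := by
  have : Module.Flat B (Localization.AtPrime q.asIdeal) := IsLocalization.flat _ q.asIdeal.primeCompl
  have : Module.Flat A (Localization.AtPrime q.asIdeal) := Module.Flat.trans A B _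
  refine isDualizing_iff_gorenstein hω _ ⟨q.asIdeal.comap (algebraMap A B), inferInstance⟩ ?_
  rw [IsScalarTower.algebraMap_eq A B (Localization.AtPrime q.asIdeal), ← Ideal.comap_comap]
  exact congrArg (Ideal.comap (algebraMap A B)) (Localization.AtPrime.under_maximalIdeal (I := q.asIdeal))

omit [Algebra A B] [Module.Flat A B] [IsNoetherianRing A] [IsNoetherianRing B] in
theorem gorenstein_congr {q q' : Ideal B} [q.IsPrime] [q'.IsPrime] (h : q = q') :
    LocCoh.IsGorensteinLocalRing (Localization.AtPrime q) ↔ LocCoh.IsGorensteinLocalRing (Localization.AtPrime q') := by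
  subst h
  rfl

/-- The locus is stable under generalization. -/
theorem GP_of_le {ω : Dual.D A} (hω : Dual.IsDualizing A ω) {q q' : PrimeSpectrum B} (hle : q' ≤ q)
    (h : GP A B q) : GP A B q' := by
  let L := Localization.AtPrime q.asIdeal
  let L' := Localization.AtPrime q'.asIdeal
  rw [← isDualizing_iff_GP hω] at h ⊢
  have hM : q.asIdeal.primeCompl ≤ q'.asIdeal.primeCompl := fun x hx hx' => hx (hle hx')
  letI : Algebra L L' := IsLocalization.localizationAlgebraOfSubmonoidLe L L' _ _ hM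
  haveI : IsScalarTower B L L' := IsLocalization.localization_isScalarTower_of_submonoid_le L L' _ _ hM
  haveI : IsScalarTower A L L' := IsScalarTower.of_algebraMap_eq fun x => by
    rw [IsScalarTower.algebraMap_apply A B L, IsScalarTower.algebraMap_apply A B L',
      ← IsScalarTower.algebraMap_apply B L L']
  haveI : IsLocalization (q'.asIdeal.primeCompl.map (algebraMap B L)) L' :=
    IsLocalization.isLocalization_of_submonoid_le L L' _ _ hM
  haveI : Module.Flat L L' := IsLocalization.flat L' (q'.asIdeal.primeCompl.map (algebraMap B L))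
  haveI : Module.Flat B L := IsLocalization.flat _ q.asIdeal.primeCompl
  haveI : Module.Flat A L := Module.Flat.trans A B _
  obtain ⟨e⟩ := Comp.nonempty_iso A L L' ω
  refine FlatBC.isDualizing_of_iso e.symm (Extended.isDualizing h fun M _ => ?_)
  exact IsLocalization.map_under (q'.asIdeal.primeCompl.map (algebraMap B L)) L' M

/-- Openness when all quotients of source and base by primes of the base have dualizing complexes. -/
theorem isOpen_GP {ω : Dual.D A} (hω : Dual.IsDualizing A ω)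
    (hA : ∀ p : Ideal A, ∃ ω' : Dual.D (A ⧸ p), Dual.IsDualizing (A ⧸ p) ω')
    (hB : ∀ I : Ideal B, ∃ ω' : Dual.D (B ⧸ I), Dual.IsDualizing (B ⧸ I) ω') :
    IsOpen {q : PrimeSpectrum B | GP A B q} := by
  refine EGA4Lib.isOpen_of_forall_exists_basicOpen _ (fun q hq q' h => GP_of_le hω h hq) ?_
  intro q hq
  let p := q.asIdeal.comap (algebraMap A B)
  let I : Ideal B := p.map (algebraMap A B)
  have hIq : I ≤ q.asIdeal := Ideal.map_le_iff_le_comap.2 le_rfl
  -- local rings of `B ⧸ I`
  have hloc : ∀ (Q : PrimeSpectrum B) (hIQ : I ≤ Q.asIdeal) (Q' : PrimeSpectrum (B ⧸ I)),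
      Q'.asIdeal.comap (Ideal.Quotient.mk I) = Q.asIdeal →
      ∃ e : Localization.AtPrime Q'.asIdeal ≃+* Localization.AtPrime Q.asIdeal ⧸
        p.map (algebraMap A (Localization.AtPrime Q.asIdeal)),
        ∀ a : A, e (algebraMap (A ⧸ p) (Localization.AtPrime Q'.asIdeal) (Ideal.Quotient.mk p a)) =
          Ideal.Quotient.mk _ (algebraMap A (Localization.AtPrime Q.asIdeal) a) := by
    intro Q _ Q' hQ'
    let BQ := Localization.AtPrime Q.asIdeal
    have hM : Algebra.algebraMapSubmonoid (B ⧸ I) Q.asIdeal.primeCompl = Q'.asIdeal.primeCompl := by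
      ext y
      obtain ⟨a, rfl⟩ := Ideal.Quotient.mk_surjective y
      constructor
      · rintro ⟨b, hb, hab⟩ hq
        refine hb (hQ' ▸ ?_)
        change Ideal.Quotient.mk I b ∈ Q'.asIdeal
        rw [← Ideal.Quotient.algebraMap_eq, hab]
        exact hq
      · intro h
        exact ⟨a, fun ha => h (show a ∈ Q'.asIdeal.comap (Ideal.Quotient.mk I) from hQ'.symm ▸ ha), rfl⟩
    haveI : IsLocalization Q'.asIdeal.primeCompl (BQ ⧸ I.map (algebraMap B BQ)) := by
      rw [← hM]; infer_instance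
    let e := IsLocalization.algEquiv Q'.asIdeal.primeCompl (Localization.AtPrime Q'.asIdeal)
      (BQ ⧸ I.map (algebraMap B BQ))
    have hI : I.map (algebraMap B BQ) = p.map (algebraMap A BQ) := by
      rw [Ideal.map_map, ← IsScalarTower.algebraMap_eq]
    refine ⟨e.toRingEquiv.trans (Ideal.quotEquivOfEq hI), fun a => ?_⟩
    rw [IsScalarTower.algebraMap_apply (A ⧸ p) (B ⧸ I) (Localization.AtPrime Q'.asIdeal)]
    rw [RingEquiv.trans_apply]
    refine (congrArg (Ideal.quotEquivOfEq hI) (e.commutes _)).trans ?_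
    change Ideal.quotEquivOfEq hI (Ideal.Quotient.mk _ (algebraMap B BQ (algebraMap A B a))) = _
    rw [Ideal.quotEquivOfEq_mk, ← IsScalarTower.algebraMap_apply]
  have hmem : ∀ (Q : PrimeSpectrum B), I ≤ Q.asIdeal → ∃ Q' : PrimeSpectrum (B ⧸ I),
      Q'.asIdeal.comap (Ideal.Quotient.mk I) = Q.asIdeal := fun Q hQ => by
    haveI := Ideal.map_isPrime_of_surjective (f := Ideal.Quotient.mk I) Ideal.Quotient.mk_surjective
      (I := Q.asIdeal) (by rwa [Ideal.mk_ker])
    exact ⟨⟨_, this⟩, Ideal.comap_map_of_surjective _ Ideal.Quotient.mk_surjective Q.asIdeal |>.trans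
      (by rw [← RingHom.ker_eq_comap_bot, Ideal.mk_ker, sup_of_le_left hQ])⟩
  obtain ⟨q₀, hq₀⟩ := hmem q hIq
  obtain ⟨ωB, hωB⟩ := hB I
  obtain ⟨eq, -⟩ := hloc q hIq q₀ hq₀
  have hq₀G : LocCoh.IsGorensteinLocalRing (Localization.AtPrime q₀.asIdeal) :=
    (Gor.FlatLocal.gorenstein_iff_of_ringEquiv eq).2 hq
  have := hωB.isNoetherianRing
  obtain ⟨_, ⟨g, rfl⟩, hgq, hg⟩ := PrimeSpectrum.isTopologicalBasis_basic_opens.exists_subset_of_mem_open
    hq₀G (Locus.isOpen_gorenstein hωB)
  obtain ⟨g, rfl⟩ := Ideal.Quotient.mk_surjective g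
  obtain ⟨ωA, hωA⟩ := hA p
  have := hωA.isNoetherianRing
  let p₀ : PrimeSpectrum (A ⧸ p) := ⟨⊥, Ideal.isPrime_bot⟩
  have hp₀ : LocCoh.IsGorensteinLocalRing (Localization.AtPrime p₀.asIdeal) := by
    haveI : IsRegularLocalRing (Localization.AtPrime p₀.asIdeal) := EGA4Lib.bot_mem_regLocus (A ⧸ p)
    exact S0342.result _
  obtain ⟨_, ⟨a, rfl⟩, hap, ha⟩ := PrimeSpectrum.isTopologicalBasis_basic_opens.exists_subset_of_mem_open
    hp₀ (Locus.isOpen_gorenstein hωA)
  obtain ⟨a, rfl⟩ := Ideal.Quotient.mk_surjective a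
  refine ⟨g * algebraMap A B a, q.isPrime.mul_notMem ?_ ?_, fun Q hqQ hfQ => ?_⟩
  · exact fun h => hgq (show g ∈ q₀.asIdeal.comap (Ideal.Quotient.mk I) from hq₀.symm ▸ h)
  · exact fun h => hap (Ideal.Quotient.eq_zero_iff_mem.2 h)
  have hIQ : I ≤ Q.asIdeal := hIq.trans hqQ
  obtain ⟨Q', hQ'⟩ := hmem Q hIQ
  have hQG : LocCoh.IsGorensteinLocalRing (Localization.AtPrime Q'.asIdeal) := hg (a := Q') fun h =>
    hfQ (Ideal.mul_mem_right _ _ (hQ' ▸ h))
  let P := Q.asIdeal.comap (algebraMap A B)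
  let P' : PrimeSpectrum (A ⧸ p) := ⟨Q'.asIdeal.comap (algebraMap (A ⧸ p) (B ⧸ I)), inferInstance⟩
  have hPP' : P'.asIdeal.comap (Ideal.Quotient.mk p) = P := by
    show (Q'.asIdeal.comap (algebraMap (A ⧸ p) (B ⧸ I))).comap (Ideal.Quotient.mk p) = Q.asIdeal.comap (algebraMap A B)
    rw [← hQ', Ideal.comap_comap, Ideal.comap_comap]
    rfl
  have hPG : LocCoh.IsGorensteinLocalRing (Localization.AtPrime P'.asIdeal) := ha (a := P') fun h =>
    hfQ (Ideal.mul_mem_left _ _ (show a ∈ P from hPP' ▸ h))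
  haveI : Module.Flat (A ⧸ p) (B ⧸ I) := AlgSp.GorCore.flat_quotient_algebra p
  obtain ⟨Q'', _, hQ''⟩ := Gor.Ring.exists_fibre_prime (A := A ⧸ p) Q'.asIdeal
  have h2 := (Gor.Ring.gorenstein_atPrime_iff_fibre (A := A ⧸ p) (B := B ⧸ I) _ Q'').1 ((gorenstein_congr hQ'').2 hQG)
  have h3 := (GorFibre.gorenstein_quotient_iff (A := A ⧸ p) (B := B ⧸ I) _ Q'' Q'.asIdeal hQ'').1 h2.2
  obtain ⟨eQ, heQ⟩ := hloc Q hIQ Q' hQ'
  let BQ := Localization.AtPrime Q.asIdeal
  have hmap : ((Q'.asIdeal.comap (algebraMap (A ⧸ p) (B ⧸ I))).map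
      (algebraMap (A ⧸ p) (Localization.AtPrime Q'.asIdeal))).map (eQ : Localization.AtPrime Q'.asIdeal →+* _) =
      ((P.map (algebraMap A BQ))).map (Ideal.Quotient.mk (p.map (algebraMap A BQ))) := by
    rw [← hPP', Ideal.map_map, Ideal.map_map]
    conv_lhs => rw [show Ideal.comap (algebraMap (A ⧸ p) (B ⧸ I)) Q'.asIdeal = P'.asIdeal from rfl, ← Ideal.map_comap_of_surjective _ Ideal.Quotient.mk_surjective P'.asIdeal, Ideal.map_map]
    exact congrArg (Ideal.map · _) (RingHom.ext heQ)
  change LocCoh.IsGorensteinLocalRing (BQ ⧸ P.map (algebraMap A BQ))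
  exact (Gor.FlatLocal.gorenstein_iff_of_ringEquiv ((Ideal.quotientEquiv _ _ eQ hmap.symm).trans
    (DoubleQuot.quotQuotEquivQuotOfLE (Ideal.map_mono (show p ≤ P from Ideal.comap_mono hqQ))))).1 h3

end Groth.Agent.CohOps.GorLocus
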