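import Groth.Agent.CohOps.GorLocus
import Groth.Agent.S3626
import Groth.Agent.GrpdLib.FppfSourceDescent

/-!
# Openness of the Gorenstein locus of a flat morphism of finite presentation
-/

set_option autoImplicit false
set_option maxHeartbeats 1600000
set_option backward.isDefEq.respectTransparency.types false
universe u

open CategoryTheory CategoryTheory.Limits AlgebraicGeometry IsLocalRing TensorProduct

attribute [local instance] HasDerivedCategory.standard

namespace Groth.Agent.CohOps.GorOpen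

open Groth.Agent.DualCx

/-- A quotient of a polynomial ring over `ℤ` has a dualizing complex. -/
theorem exists_isDualizing_of_surjective {n : ℕ} {R : Type u} [CommRing R] (f : MvPolynomial (Fin n) ℤ →+* R)
    (hf : Function.Surjective f) : ∃ ω : Dual.D R, Dual.IsDualizing R ω := by
  let Z := ULift.{u} ℤ
  haveI : IsDomain Z := (ULift.ringEquiv : Z ≃+* ℤ).isDomain
  haveI : IsPrincipalIdealRing Z := IsPrincipalIdealRing.of_surjective
    (ULift.ringEquiv.symm : ℤ ≃+* Z).toRingHom ULift.ringEquiv.symm.surjective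
  have hd : ringKrullDim Z ≤ (1 : ℕ) := Ring.krullDimLE_iff.1 inferInstance
  have hZ := Gorenstein.isDualizing_of_isGorensteinRing (A := Z) (Gor.Ring.isGorensteinRing_of_isRegularRing Z) hd
  let P := MvPolynomial (Fin n) Z
  let φ : P →+* R := f.comp (MvPolynomial.map (ULift.ringEquiv : Z ≃+* ℤ).toRingHom)
  have hφ : Function.Surjective φ := hf.comp
    (MvPolynomial.map_surjective _ (ULift.ringEquiv : Z ≃+* ℤ).surjective)
  letI : Algebra P R := φ.toAlgebra
  haveI : Module.Finite P R := Module.Finite.of_surjective (Algebra.linearMap P R) hφ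
  haveI : IsNoetherianRing R := isNoetherianRing_of_surjective P R φ hφ
  exact Shriek.exists_isDualizing (Smooth.isDualizing_mvPolynomial hZ n)

theorem noeth_quot {U V : Scheme.{u}} (h : U ⟶ V) [LocallyOfFiniteType h] (u : U) :
    IsNoetherianRing (U.presheaf.stalk u ⧸ AlgSp.GorCore.fibIdeal h u) :=
  FlatMor.CMFlat.isNoetherianRing_quot h u (Wt.CMBase.isLocallyNoetherian_fiber h _)

theorem gorenstein_quot_congr {A' B' A'' B'' : Type u} [CommRing A'] [CommRing B'] [CommRing A''] [CommRing B'']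
    [IsLocalRing A'] [IsLocalRing A''] (eA : A' ≃+* A'') (eB : B' ≃+* B'') (φ : A' →+* B') (ψ : A'' →+* B'')
    (hc : ∀ x, eB (φ x) = ψ (eA x)) :
    LocCoh.IsGorensteinLocalRing (B' ⧸ (maximalIdeal A').map φ) ↔
      LocCoh.IsGorensteinLocalRing (B'' ⧸ (maximalIdeal A'').map ψ) := by
  refine Gor.FlatLocal.gorenstein_iff_of_ringEquiv (Ideal.quotientEquiv _ _ eB ?_)
  have hA : (maximalIdeal A').map (eA : A' →+* A'') = maximalIdeal A'' :=
    IsLocalRing.map_maximalIdeal_of_surjective _ eA.surjective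
  rw [Ideal.map_map, show (eB : B' →+* B'').comp φ = ψ.comp (eA : A' →+* A'') from RingHom.ext hc,
    ← Ideal.map_map, hA]

theorem GP_iff {A B : Type u} [CommRing A] [CommRing B] [Algebra A B] (q : PrimeSpectrum B) :
    LocCoh.IsGorensteinLocalRing (Localization.AtPrime q.asIdeal ⧸
      (maximalIdeal (Localization.AtPrime (q.asIdeal.comap (algebraMap A B)))).map
        (Localization.localRingHom (q.asIdeal.comap (algebraMap A B)) q.asIdeal (algebraMap A B) rfl)) ↔
      GorLocus.GP A B q := by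
  refine Gor.FlatLocal.gorenstein_iff_of_ringEquiv (Ideal.quotEquivOfEq ?_)
  rw [← IsLocalization.AtPrime.map_eq_maximalIdeal (q.asIdeal.comap (algebraMap A B)), Ideal.map_map]
  exact congrArg (Ideal.map · _) (RingHom.ext fun a =>
    (Localization.localRingHom_to_map _ q.asIdeal (algebraMap A B) rfl a).trans
      (IsScalarTower.algebraMap_apply A B _ a).symm)

/-- Gorensteinness at a point for a map of affine schemes. -/
theorem isGorensteinAt_Spec_iff {A B : Type u} [CommRing A] [CommRing B] [Algebra A B] [Module.Flat A B]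
    (q : Spec (CommRingCat.of B)) :
    Dual3.IsGorensteinAt (Spec.map (CommRingCat.ofHom (algebraMap A B))) q ↔ GorLocus.GP A B q := by
  haveI : Flat (Spec.map (CommRingCat.ofHom (algebraMap A B))) :=
    (HasRingHomProperty.Spec_iff (P := @Flat)).2 (RingHom.flat_algebraMap_iff.2 ‹_›)
  rw [AlgSp.GorCore.isGorensteinAt_iff]
  refine (and_iff_right (Flat.stalkMap _ q)).trans (Iff.trans ?_ (GP_iff q))
  refine gorenstein_quot_congr
    (Spec.stalkIso (CommRingCat.of A) (PrimeSpectrum.comap (algebraMap A B) q)).commRingCatIsoToRingEquiv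
    (Spec.stalkIso (CommRingCat.of B) q).commRingCatIsoToRingEquiv _ _ fun x => ?_
  refine (Spec.stalkIso (CommRingCat.of B) q).commRingCatIsoToRingEquiv.symm.injective ?_
  rw [RingEquiv.symm_apply_apply]
  exact (congr($(Scheme.localRingHom_comp_stalkIso (CommRingCat.ofHom (algebraMap A B)) q) x)).symm

theorem isOpen_Spec (A B : Type u) [CommRing A] [CommRing B] [Algebra A B] [Algebra.FinitePresentation A B]
    [Module.Flat A B] :
    IsOpen {q : PrimeSpectrum B | Dual3.IsGorensteinAt (Spec.map (CommRingCat.ofHom (algebraMap A B))) q} := by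
  obtain ⟨A₀, B₀, _, _, hA₀, hfp, hfl, ⟨e⟩⟩ := GrpdLib.FppfSourceDescent.exists_flat_model A B
  haveI : Algebra.FiniteType ℤ A₀ := A₀.fg_iff_finiteType.1 hA₀
  haveI : IsNoetherianRing A₀ := isNoetherianRing_of_fg hA₀
  haveI : IsNoetherianRing B₀ := Algebra.FiniteType.isNoetherianRing A₀ B₀
  haveI : Algebra.FiniteType ℤ B₀ := Algebra.FiniteType.trans (S := A₀) inferInstance inferInstance
  obtain ⟨n, π, hπ⟩ := Algebra.FiniteType.iff_quotient_mvPolynomial''.1 ‹Algebra.FiniteType ℤ A₀›
  obtain ⟨m, ρ, hρ⟩ := Algebra.FiniteType.iff_quotient_mvPolynomial''.1 ‹Algebra.FiniteType ℤ B₀›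
  obtain ⟨ω, hω⟩ := exists_isDualizing_of_surjective π.toRingHom hπ
  have h0 : IsOpen {q : PrimeSpectrum B₀ | GorLocus.GP A₀ B₀ q} := GorLocus.isOpen_GP hω
    (fun p => exists_isDualizing_of_surjective ((Ideal.Quotient.mk p).comp π.toRingHom) (Ideal.Quotient.mk_surjective.comp hπ))
    (fun I => exists_isDualizing_of_surjective ((Ideal.Quotient.mk I).comp ρ.toRingHom) (Ideal.Quotient.mk_surjective.comp hρ))
  let ι : B₀ →+* B := (e.symm : A ⊗[A₀] B₀ →+* B).comp (Algebra.TensorProduct.includeRight).toRingHom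
  let f := Spec.map (CommRingCat.ofHom (algebraMap A B))
  let f₀ := Spec.map (CommRingCat.ofHom (algebraMap A₀ B₀))
  let g := Spec.map (CommRingCat.ofHom (algebraMap A₀ A))
  let g' := Spec.map (CommRingCat.ofHom ι)
  haveI : Flat f₀ := (HasRingHomProperty.Spec_iff (P := @Flat)).2 (RingHom.flat_algebraMap_iff.2 hfl)
  haveI : LocallyOfFiniteType f₀ := (HasRingHomProperty.Spec_iff (P := @LocallyOfFiniteType)).2
    (RingHom.finiteType_algebraMap.2 inferInstance)
  have hP : IsPushout (CommRingCat.ofHom (algebraMap A₀ B₀)) (CommRingCat.ofHom (algebraMap A₀ A))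
      (CommRingCat.ofHom ι) (CommRingCat.ofHom (algebraMap A B)) := by
    refine IsPushout.of_iso (CommRingCat.isPushout_tensorProduct A₀ A B₀).flip (Iso.refl _) (Iso.refl _)
      (Iso.refl _) e.symm.toRingEquiv.toCommRingCatIso ?_ ?_ ?_ ?_
    · simp
    · simp
    · rfl
    · ext a
      exact e.symm.commutes a
  have hsq : IsPullback g' f f₀ g := isPullback_SpecMap_of_isPushout _ _ _ _ hP
  have : {q : PrimeSpectrum B | Dual3.IsGorensteinAt f q} =
      PrimeSpectrum.comap ι ⁻¹' {q | GorLocus.GP A₀ B₀ q} := by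
    ext q
    exact (S3626.result _ _ _ _ f₀ g f g' hsq q).trans (isGorensteinAt_Spec_iff _)
  rw [this]
  exact h0.preimage (PrimeSpectrum.continuous_comap ι)

theorem isOpen {X S : Scheme.{u}} (f : X ⟶ S) [Flat f] [LocallyOfFinitePresentation f] :
    IsOpen {x : X | Dual3.IsGorensteinAt f x} := by
  rw [isOpen_iff_forall_mem_open]
  intro x hx
  obtain ⟨U, hU, hxU, -⟩ := exists_isAffineOpen_mem_and_subset (X := S) (TopologicalSpace.Opens.mem_top (f x))
  obtain ⟨V, hV, hxV, hVU⟩ := exists_isAffineOpen_mem_and_subset (x := x) (U := f ⁻¹ᵁ U) hxU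
  letI := (f.appLE U V hVU).hom.toAlgebra
  haveI : Algebra.FinitePresentation Γ(S, U) Γ(X, V) := f.finitePresentation_appLE hU hV hVU
  haveI : Module.Flat Γ(S, U) Γ(X, V) := HasRingHomProperty.appLE @Flat f inferInstance ⟨U, hU⟩ ⟨V, hV⟩ hVU
  have hfac : hV.fromSpec ≫ f = Spec.map (f.appLE U V hVU) ≫ hU.fromSpec :=
    (IsAffineOpen.SpecMap_appLE_fromSpec f hU hV hVU).symm
  haveI : IsOpenImmersion hV.fromSpec := hV.isOpenImmersion_fromSpec
  haveI : IsOpenImmersion hU.fromSpec := hU.isOpenImmersion_fromSpec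
  have key : ∀ q, Dual3.IsGorensteinAt f (hV.fromSpec q) ↔
      Dual3.IsGorensteinAt (Spec.map (CommRingCat.ofHom (algebraMap Γ(S, U) Γ(X, V)))) q := by
    intro q
    rw [← AlgSp.GorCore.isGorensteinAt_precomp hV.fromSpec f q (noeth_quot f _) (noeth_quot (hV.fromSpec ≫ f) _),
      hfac, AlgSp.GorCore.isGorensteinAt_postcomp]
    rfl
  obtain ⟨q, rfl⟩ : x ∈ Set.range hV.fromSpec := hV.range_fromSpec.symm ▸ hxV
  refine ⟨hV.fromSpec '' {q | Dual3.IsGorensteinAt (Spec.map (CommRingCat.ofHom (algebraMap Γ(S, U) Γ(X, V)))) q},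
    ?_, hV.fromSpec.isOpenEmbedding.isOpenMap _ (isOpen_Spec _ _), q, (key q).1 hx, rfl⟩
  rintro _ ⟨q', hq', rfl⟩
  exact (key q').2 hq'

end Groth.Agent.CohOps.GorOpen
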