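import Mathlib.AlgebraicGeometry.Morphisms.Flat
import Mathlib.AlgebraicGeometry.AffineScheme

/-!
# Ring maps inducing open immersions
-/

set_option autoImplicit false
set_option linter.style.haveILetI false
set_option backward.isDefEq.respectTransparency.types false
universe u

open CategoryTheory AlgebraicGeometry

namespace Groth.Agent.CohOps.OpenImm

variable {A B : Type u} [CommRing A] [CommRing B] [Algebra A B]
  [IsOpenImmersion (Spec.map (CommRingCat.ofHom (algebraMap A B)))]

include A B

/-- The ring map of an open immersion is flat. -/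
theorem flat : Module.Flat A B :=
  (RingHom.flat_algebraMap_iff).1 ((HasRingHomProperty.Spec_iff (P := @Flat)).1
    (inferInstance : Flat (Spec.map (CommRingCat.ofHom (algebraMap A B)))))

/-- Maximal ideals are extended along an open immersion. -/
theorem map_comap_eq (q : Ideal B) [hq : q.IsMaximal] :
    (q.comap (algebraMap A B)).map (algebraMap A B) = q := by
  refine le_antisymm Ideal.map_comap_le fun b hb => ?_
  let φ := CommRingCat.ofHom (algebraMap A B)
  let Q : PrimeSpectrum B := ⟨q, hq.isPrime⟩
  let p := q.comap (algebraMap A B)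
  let I := p.map (algebraMap A B)
  have huniq : ∀ m : Ideal B, m.IsMaximal → I ≤ m → m = q := by
    intro m hm hle
    let M : PrimeSpectrum B := ⟨m, hm.isPrime⟩
    have hemb : Topology.IsOpenEmbedding (PrimeSpectrum.comap (algebraMap A B)) :=
      (Spec.map φ).isOpenEmbedding
    have hs : PrimeSpectrum.comap (algebraMap A B) Q ⤳ PrimeSpectrum.comap (algebraMap A B) M :=
      (PrimeSpectrum.le_iff_specializes _ _).1 (Ideal.map_le_iff_le_comap.1 hle)
    exact (hq.eq_of_le hm.ne_top ((PrimeSpectrum.le_iff_specializes Q M).2 (hemb.isInducing.specializes_iff.1 hs))).symm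
  haveI : IsOpenImmersion (Spec.map φ) := ‹_›
  have hx : IsIso ((Spec.map φ).stalkMap (Q : Spec (CommRingCat.of B))) := inferInstance
  have hiso : IsIso (CommRingCat.ofHom <| Localization.localRingHom (PrimeSpectrum.comap φ.hom Q).asIdeal Q.asIdeal φ.hom rfl) :=
    ((MorphismProperty.isomorphisms CommRingCat).arrow_mk_iso_iff (Scheme.arrowStalkMapSpecIso φ Q)).1 hx
  have hbij : Function.Bijective (Localization.localRingHom (PrimeSpectrum.comap φ.hom Q).asIdeal Q.asIdeal φ.hom rfl) :=
    ConcreteCategory.bijective_of_isIso (CommRingCat.ofHom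
      (Localization.localRingHom (PrimeSpectrum.comap φ.hom Q).asIdeal Q.asIdeal φ.hom rfl))
  have hbij' : Function.Bijective (Localization.localRingHom p q (algebraMap A B) rfl) := hbij
  obtain ⟨y, hy⟩ := hbij'.2 (algebraMap B (Localization.AtPrime q) b)
  obtain ⟨a, s, rfl⟩ := IsLocalization.exists_mk'_eq p.primeCompl y
  rw [Localization.localRingHom_mk', IsLocalization.mk'_eq_iff_eq_mul, ← map_mul] at hy
  obtain ⟨t, ht⟩ := (IsLocalization.eq_iff_exists q.primeCompl (Localization.AtPrime q)).1 hy
  have ha : a ∈ p := by
    change algebraMap A B a ∈ q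
    refine (hq.isPrime.mem_or_mem (show (t : B) * algebraMap A B a ∈ q from ?_)).resolve_left t.2
    rw [ht]
    exact q.mul_mem_left _ (q.mul_mem_right _ hb)
  have hu : (t : B) * algebraMap A B s ∈ Submodule.colon I {b} := by
    rw [Submodule.mem_colon_singleton, smul_eq_mul, show (t : B) * algebraMap A B s * b = (t : B) * algebraMap A B a from by
      rw [ht]; ring]
    exact I.mul_mem_left _ (Ideal.mem_map_of_mem _ ha)
  have htop : Submodule.colon I {b} = ⊤ := by
    by_contra hne
    obtain ⟨m, hm, hle⟩ := Ideal.exists_le_maximal _ hne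
    have := huniq m hm (le_trans (fun z hz => Submodule.mem_colon_singleton.2 (I.mul_mem_right _ hz)) hle)
    subst this
    exact (hq.isPrime.mem_or_mem (hle hu)).elim t.2 s.2
  have h1 : (1 : B) ∈ Submodule.colon I {b} := htop ▸ Submodule.mem_top
  rw [Submodule.mem_colon_singleton, one_smul] at h1
  exact h1

end Groth.Agent.CohOps.OpenImm
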