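import Groth.Agent.KFlat.LpullComp
import Groth.Agent.KFlat.FlatPull
import Groth.Agent.CohOps.TildeRestrict
import Groth.Agent.CohOps.GorOpen
import Groth.Agent.DualCx.GorFibreFF
import Groth.Agent.DualCx.Extended
import Groth.Agent.CohOps.DualLocal
import Groth.Agent.KFlat.TildeD
import Groth.Agent.S3662

/-!
# Dualizing complexes and derived pullback along flat Gorenstein morphisms
-/

set_option autoImplicit false
set_option backward.isDefEq.respectTransparency.types false
set_option linter.style.haveILetI false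
universe u

open CategoryTheory CategoryTheory.Limits AlgebraicGeometry
open scoped TensorProduct

attribute [local instance] HasDerivedCategory.standard

namespace Groth.Agent.CohOps.LpullDual

open Groth.Agent.DualCx
open BaseChange (FD ext)

theorem additive_pullback {X Y : Scheme.{u}} (f : X ⟶ Y) : (Scheme.Modules.pullback f).Additive := by
  haveI : PreservesColimitsOfSize.{0, 0} (Scheme.Modules.pullback f) :=
    (Scheme.Modules.pullbackPushforwardAdjunction f).leftAdjoint_preservesColimits
  haveI := preservesBinaryBiproducts_of_preservesBinaryCoproducts (Scheme.Modules.pullback f)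
  exact Functor.additive_of_preservesBinaryBiproducts _

theorem preservesFiniteColimits_pullback {X Y : Scheme.{u}} (f : X ⟶ Y) :
    PreservesFiniteColimits (Scheme.Modules.pullback f) := by
  haveI : PreservesColimitsOfSize.{0, 0} (Scheme.Modules.pullback f) :=
    (Scheme.Modules.pullbackPushforwardAdjunction f).leftAdjoint_preservesColimits
  exact PreservesColimitsOfSize0.preservesFiniteColimits _

attribute [local instance] preservesFiniteColimits_pullback

/-- The derived pullback along a flat morphism is the pullback. -/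
theorem nonempty_Lpull {X Y : Scheme.{u}} (f : X ⟶ Y) [Flat f] [DCoh.HasLpull f] (K : DCoh.D Y) :
    Nonempty ((DCoh.Lpull f).obj K ≅ (Scheme.Modules.pullback f).mapDerivedCategory.obj K) := by
  obtain ⟨L, ⟨i⟩⟩ : ∃ L : CochainComplex Y.Modules ℤ, Nonempty (DerivedCategory.Q.obj L ≅ K) :=
    ⟨_, ⟨DerivedCategory.Q.objObjPreimageIso K⟩⟩
  let P := (Scheme.Modules.pullback f).mapDerivedCategory
  exact ⟨(DCoh.Lpull f).mapIso i.symm ≪≫ (KFlat.Pull.lpullIso f).app L ≪≫
    ((Scheme.Modules.pullback f).mapDerivedCategoryFactors.app ((KFlat.Pull.resY Y).obj L)).symm ≪≫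
    P.mapIso ((KFlat.Pull.resQIso (Y := Y)).app L ≪≫ i)⟩

variable [∀ (U V : Scheme.{u}) (j : U ⟶ V) [IsOpenImmersion j], PreservesFiniteLimits (Scheme.Modules.restrictFunctor j)]
  [∀ (R : CommRingCat.{u}), PreservesFiniteLimits (tilde.functor R)]

section Chart

variable {X Y : Scheme.{u}} (f : X ⟶ Y) [Flat f] [DCoh.HasLpull f]
  {A B : Type u} [CommRing A] [CommRing B] [Algebra A B] [Module.Flat A B]
  (k : Spec (CommRingCat.of A) ⟶ Y) [IsOpenImmersion k] (j : Spec (CommRingCat.of B) ⟶ X) [IsOpenImmersion j]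

/-- The derived pullback on charts. -/
theorem chart_Lpull (hfac : j ≫ f = Spec.map (CommRingCat.ofHom (algebraMap A B)) ≫ k) {K : DCoh.D Y}
    {ω : Dual.D A} (e : (DCoh.restrictD k).obj K ≅ (DCoh.tildeD (CommRingCat.of A)).obj ω) :
    Nonempty ((DCoh.restrictD j).obj ((DCoh.Lpull f).obj K) ≅
      (DCoh.tildeD (CommRingCat.of B)).obj ((FD A B).obj ω)) := by
  let g := Spec.map (CommRingCat.ofHom (algebraMap A B))
  haveI : Flat g := (HasRingHomProperty.Spec_iff (P := @Flat)).2 (RingHom.flat_algebraMap_iff.2 ‹_›)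
  haveI : ∀ R : CommRingCat.{u}, (tilde.functor R).Additive := fun R => Functor.additive_of_preserves_binary_products _
  haveI : ∀ R : CommRingCat.{u}, PreservesFiniteColimits (tilde.functor R) := fun R => by
    have : PreservesColimitsOfSize.{0, 0} (tilde.functor R) := (tilde.adjunction (R := R)).leftAdjoint_preservesColimits
    exact PreservesColimitsOfSize0.preservesFiniteColimits _
  obtain ⟨e1⟩ := nonempty_Lpull f K
  obtain ⟨e2⟩ := TildeRestrict.nonempty_mapDerived_square (Scheme.Modules.pullback f)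
    (Scheme.Modules.restrictFunctor j) (Scheme.Modules.restrictFunctor k) (Scheme.Modules.pullback g)
    (Functor.isoWhiskerLeft _ (Scheme.Modules.restrictFunctorIsoPullback j) ≪≫
      Scheme.Modules.pullbackComp j f ≪≫ Scheme.Modules.pullbackCongr hfac ≪≫
      (Scheme.Modules.pullbackComp g k).symm ≪≫
      Functor.isoWhiskerRight (Scheme.Modules.restrictFunctorIsoPullback k).symm _) K
  obtain ⟨e3⟩ := TildeRestrict.nonempty_mapDerived_square (tilde.functor (CommRingCat.of A))
    (Scheme.Modules.pullback g) (ext A B) (tilde.functor (CommRingCat.of B))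
    (TildeRestrict.tildePullbackIso (CommRingCat.ofHom (algebraMap A B))) ω
  exact ⟨(DCoh.restrictD j).mapIso e1 ≪≫ e2 ≪≫
    (Scheme.Modules.pullback g).mapDerivedCategory.mapIso e ≪≫ e3⟩

end Chart

section Ring

variable {A B : Type u} [CommRing A] [CommRing B] [Algebra A B]

theorem isGorensteinRing_fiber [IsNoetherianRing B] (h : ∀ q : PrimeSpectrum B, GorLocus.GP A B q)
    (p : Ideal A) [p.IsPrime] : LocCoh.IsGorensteinRing (p.Fiber B) := by
  haveI := Gor.Ring.isNoetherianRing_fiber (A := A) (B := B) p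
  refine ⟨fun Q hQ => ?_⟩
  let r := Q.comap (Algebra.TensorProduct.includeRight (R := A) (A := p.ResidueField) (B := B))
  refine (GorFibre.gorenstein_quotient_iff p Q r rfl).2 ?_
  have hp : r.comap (algebraMap A B) = p := (Ideal.LiesOver.over (P := r) (p := p)).symm
  have := h ⟨r, inferInstance⟩
  rw [GorLocus.GP] at this
  have key : ∀ p' : Ideal A, p' = p → LocCoh.IsGorensteinLocalRing (Localization.AtPrime r ⧸ p'.map (algebraMap A (Localization.AtPrime r))) →
      LocCoh.IsGorensteinLocalRing (Localization.AtPrime r ⧸ p.map (algebraMap A (Localization.AtPrime r))) := by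
    rintro _ rfl h'
    exact h'
  exact key _ hp this

end Ring

variable {X Y : Scheme.{u}} (f : X ⟶ Y) [Flat f] [LocallyOfFiniteType f] [DCoh.HasLpull f]

omit [∀ (U V : Scheme.{u}) (j : U ⟶ V) [IsOpenImmersion j], PreservesFiniteLimits (Scheme.Modules.restrictFunctor j)]
  [∀ (R : CommRingCat.{u}), PreservesFiniteLimits (tilde.functor R)] [DCoh.HasLpull f] [Flat f] in
/-- Gorenstein fibres in a pair of charts. -/
theorem GP_of_isGorensteinMor (hf : Dual3.IsGorensteinMor f) {A B : Type u} [CommRing A] [CommRing B] [Algebra A B]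
    [Module.Flat A B] (k : Spec (CommRingCat.of A) ⟶ Y) [IsOpenImmersion k] (j : Spec (CommRingCat.of B) ⟶ X)
    [IsOpenImmersion j] (hfac : j ≫ f = Spec.map (CommRingCat.ofHom (algebraMap A B)) ≫ k)
    (q : PrimeSpectrum B) : GorLocus.GP A B q := by
  haveI : LocallyOfFiniteType (j ≫ f) := inferInstance
  refine (GorOpen.isGorensteinAt_Spec_iff q).1 ?_
  have h := (AlgSp.GorCore.isGorensteinAt_precomp j f q (GorOpen.noeth_quot f _) (GorOpen.noeth_quot (j ≫ f) _)).2
    (hf (j q))
  rwa [hfac, AlgSp.GorCore.isGorensteinAt_postcomp] at h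

/-- Dualizing complexes pull back to dualizing complexes along flat Gorenstein morphisms. -/
theorem exists_chart [IsLocallyNoetherian X] [IsLocallyNoetherian Y] (hf : Dual3.IsGorensteinMor f)
    {K : DCoh.D Y} (hK : Dual2.IsDualizingSch Y K) (x : X) :
    ∃ U : X.Opens, ∃ hU : IsAffineOpen U, x ∈ U ∧
      ∃ ω : Dual.D Γ(X, U), Dual.IsDualizing Γ(X, U) ω ∧ (haveI := hU.isOpenImmersion_fromSpec;
        Nonempty ((DCoh.restrictD hU.fromSpec).obj ((DCoh.Lpull f).obj K) ≅
          (DCoh.tildeD (CommRingCat.of Γ(X, U))).obj ω)) := by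
  obtain ⟨V, hV, hxV, -⟩ := exists_isAffineOpen_mem_and_subset (X := Y) (TopologicalSpace.Opens.mem_top (f x))
  obtain ⟨U, hU, hxU, hUV⟩ := exists_isAffineOpen_mem_and_subset (x := x) (U := f ⁻¹ᵁ V) hxV
  letI := (f.appLE V U hUV).hom.toAlgebra
  haveI : Algebra.FiniteType Γ(Y, V) Γ(X, U) := f.finiteType_appLE hV hU hUV
  haveI : Module.Flat Γ(Y, V) Γ(X, U) := HasRingHomProperty.appLE @Flat f inferInstance ⟨V, hV⟩ ⟨U, hU⟩ hUV
  haveI := hU.isOpenImmersion_fromSpec
  haveI := hV.isOpenImmersion_fromSpec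
  have hfac : hU.fromSpec ≫ f = Spec.map (CommRingCat.ofHom (algebraMap Γ(Y, V) Γ(X, U))) ≫ hV.fromSpec :=
    (IsAffineOpen.SpecMap_appLE_fromSpec f hV hU hUV).symm
  obtain ⟨ω, hω, ⟨e⟩⟩ := hK Γ(Y, V) hV.fromSpec
  haveI : IsNoetherianRing Γ(X, U) := IsLocallyNoetherian.component_noetherian ⟨U, hU⟩
  haveI : IsNoetherianRing Γ(Y, V) := IsLocallyNoetherian.component_noetherian ⟨V, hV⟩
  obtain ⟨N, hN⟩ := GorFibre.exists_dim_bound (B := Γ(X, U)) hω
  refine ⟨U, hU, hxU, _, GorFibre.isDualizing hω (fun p _ => ?_) N hN, chart_Lpull f hV.fromSpec hU.fromSpec hfac e⟩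
  exact isGorensteinRing_fiber (GP_of_isGorensteinMor f hf hV.fromSpec hU.fromSpec hfac) p

/-- Dualizing complexes pull back to dualizing complexes along flat Gorenstein morphisms. -/
theorem isDualizingSch_Lpull [IsLocallyNoetherian X] [IsLocallyNoetherian Y] (hf : Dual3.IsGorensteinMor f)
    {K : DCoh.D Y} (hK : Dual2.IsDualizingSch Y K) : Dual2.IsDualizingSch X ((DCoh.Lpull f).obj K) := by
  choose U hU hxU ω hω he using exists_chart f hf hK
  haveI : ∀ x, IsOpenImmersion (hU x).fromSpec := fun x => (hU x).isOpenImmersion_fromSpec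
  exact S3662.result X _ X (fun x => Γ(X, U x)) (fun x => (hU x).fromSpec)
    (fun x => ⟨x, by rw [(hU x).range_fromSpec]; exact hxU x⟩) (fun x => ⟨ω x, hω x, he x⟩)

omit [∀ (U V : Scheme.{u}) (j : U ⟶ V) [IsOpenImmersion j], PreservesFiniteLimits (Scheme.Modules.restrictFunctor j)]
  [∀ (R : CommRingCat.{u}), PreservesFiniteLimits (tilde.functor R)] [LocallyOfFiniteType f] [DCoh.HasLpull f] [Flat f] in
/-- A dualizing complex after a flat base change covering a basic open is dualizing there. -/
theorem isDualizing_away {A B : Type u} [CommRing A] [CommRing B] [Algebra A B] [Module.Flat A B]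
    [IsNoetherianRing A] {ω : Dual.D A} (hω : Dual.IsDualizing B ((FD A B).obj ω)) (s : A)
    (hs : ∀ p : PrimeSpectrum A, s ∉ p.1 → ∃ q : PrimeSpectrum B, PrimeSpectrum.comap (algebraMap A B) q = p) :
    Dual.IsDualizing (Localization.Away s) ((FD A (Localization.Away s)).obj ω) := by
  haveI := hω.isNoetherianRing
  let A' := Localization.Away s
  let B' := Localization.Away (algebraMap A B s)
  letI : Algebra A' B' := (IsLocalization.Away.map A' B' (algebraMap A B) s).toAlgebra
  haveI : IsScalarTower A A' B' := IsScalarTower.of_algebraMap_eq fun a => by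
    rw [RingHom.algebraMap_toAlgebra, IsScalarTower.algebraMap_apply A B B']
    exact (IsLocalization.map_eq _ a).symm
  haveI : Module.Flat B B' := IsLocalization.flat B' (Submonoid.powers (algebraMap A B s))
  haveI : Module.Flat A B' := Module.Flat.trans A B B'
  haveI : Module.Flat A A' := IsLocalization.flat A' (Submonoid.powers s)
  haveI : Module.Flat A' B' := (Module.flat_iff_of_isLocalization A' (Submonoid.powers s) B').2 inferInstance
  haveI : Module.FaithfullyFlat A' B' := by
    refine Module.FaithfullyFlat.of_comap_surjective fun P => ?_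
    have hsP : s ∉ (PrimeSpectrum.comap (algebraMap A A') P).1 :=
      (PrimeSpectrum.localization_away_comap_range A' s).subset ⟨P, rfl⟩
    obtain ⟨q, hq⟩ := hs _ hsP
    obtain ⟨Q, hQ⟩ := (PrimeSpectrum.localization_away_comap_range B' (algebraMap A B s)).superset
      (show q ∈ (↑(PrimeSpectrum.basicOpen (algebraMap A B s)) : Set (PrimeSpectrum B)) from
        fun h => hsP (by rw [← hq]; exact h))
    refine ⟨Q, PrimeSpectrum.localization_comap_injective A' (Submonoid.powers s) ?_⟩
    rw [← hq, ← hQ, ← PrimeSpectrum.comap_comp_apply, ← PrimeSpectrum.comap_comp_apply,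
      ← IsScalarTower.algebraMap_eq, ← IsScalarTower.algebraMap_eq]
  haveI : IsNoetherianRing A' := IsLocalization.isNoetherianRing (Submonoid.powers s) A' inferInstance
  haveI : IsNoetherianRing B' := IsLocalization.isNoetherianRing (Submonoid.powers (algebraMap A B s)) B' inferInstance
  obtain ⟨e1⟩ := Comp.nonempty_iso A B B' ω
  obtain ⟨e2⟩ := Comp.nonempty_iso A A' B' ω
  exact FFDescent.isDualizing (FlatBC.isDualizing_of_iso (e1.symm ≪≫ e2)
    (Extended.isDualizing hω fun m _ => IsLocalization.map_under (Submonoid.powers (algebraMap A B s)) B' m))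

/-- Descent of dualizing complexes along surjective flat morphisms. -/
theorem isDualizingSch_of_Lpull [IsLocallyNoetherian X] [IsLocallyNoetherian Y] [Surjective f] {K : DCoh.D Y}
    (hqc : DCoh.IsQCohD K) (hK : Dual2.IsDualizingSch X ((DCoh.Lpull f).obj K)) :
    Dual2.IsDualizingSch Y K := by
  intro A _ k _
  have hQ : DCoh.IsQCohD ((DCoh.restrictD k).obj K) := fun n => by
    obtain ⟨e1⟩ := SchStalk.nonempty_homology_iso (Scheme.Modules.restrictFunctor k) K n
    haveI : (DCoh.HD K n).IsQuasicoherent := hqc n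
    exact @QCoh.isQuasicoherent_of_iso _ _ _ e1.symm inferInstance
  obtain ⟨ω, ⟨e⟩⟩ := KFlat.TildeD.exists_iso_of_isQCohD (R := CommRingCat.of A) ((DCoh.restrictD k).obj K) hQ
  refine ⟨ω, ?_, ⟨e.symm⟩⟩
  haveI : IsLocallyNoetherian (Spec (CommRingCat.of A)) := isLocallyNoetherian_of_isOpenImmersion k
  haveI : IsNoetherianRing A := by
    have := IsLocallyNoetherian.component_noetherian ⟨⊤, isAffineOpen_top (Spec (CommRingCat.of A))⟩
    exact isNoetherianRing_of_ringEquiv _ (Scheme.ΓSpecIso (CommRingCat.of A)).commRingCatIsoToRingEquiv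
  refine DualLocal.isDualizing_of_cover ω fun p => ?_
  obtain ⟨x, hx⟩ := f.surjective (k p)
  obtain ⟨U, hU, hxU, hUk⟩ := exists_isAffineOpen_mem_and_subset (x := x) (U := f ⁻¹ᵁ k.opensRange)
    (show f x ∈ k.opensRange from ⟨p, hx.symm⟩)
  haveI := hU.isOpenImmersion_fromSpec
  let B := Γ(X, U)
  have hr : Set.range (hU.fromSpec ≫ f).base ⊆ Set.range k.base := by
    rintro _ ⟨q, rfl⟩
    exact hUk (hU.range_fromSpec.le ⟨q, rfl⟩)
  let g := IsOpenImmersion.lift k (hU.fromSpec ≫ f) hr
  have hg : g ≫ k = hU.fromSpec ≫ f := IsOpenImmersion.lift_fac _ _ _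
  obtain ⟨φ, hφ⟩ := Spec.map_surjective g
  letI : Algebra A B := φ.hom.toAlgebra
  have hφ' : Spec.map (CommRingCat.ofHom (algebraMap A B)) = g := hφ
  haveI : Flat (g ≫ k) := hg ▸ inferInstance
  haveI : LocallyOfFiniteType (g ≫ k) := hg ▸ inferInstance
  haveI : LocallyOfFiniteType g := locallyOfFiniteType_of_comp g k
  haveI : Flat g := MorphismProperty.of_postcomp (W := @Flat) (W' := @IsOpenImmersion) g k ‹_› ‹_›
  haveI : Module.Flat A B := RingHom.flat_algebraMap_iff.1 ((HasRingHomProperty.Spec_iff (P := @Flat)).1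
    (hφ' ▸ inferInstance))
  haveI : LocallyOfFinitePresentation g := by
    rw [← hφ', LocallyOfFinitePresentation.SpecMap_iff]
    haveI : IsNoetherianRing (CommRingCat.of A) := ‹IsNoetherianRing A›
    exact RingHom.FinitePresentation.of_finiteType.1 ((HasRingHomProperty.Spec_iff (P := @LocallyOfFiniteType)).1 (hφ'.symm ▸ inferInstance))
  obtain ⟨q, hq⟩ : x ∈ Set.range hU.fromSpec.base := hU.range_fromSpec.symm ▸ hxU
  have hgq : g q = p := k.isOpenEmbedding.injective (by
    rw [← Scheme.Hom.comp_apply, hg, Scheme.Hom.comp_apply]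
    exact (congrArg f hq).trans hx)
  obtain ⟨_, ⟨s, rfl⟩, hps, hsub⟩ := PrimeSpectrum.isTopologicalBasis_basic_opens.exists_subset_of_mem_open
    (show (p : PrimeSpectrum A) ∈ Set.range g.base from ⟨q, hgq⟩) (g.isOpenMap.isOpen_range)
  haveI : Module.Flat A (Localization.Away s) := IsLocalization.flat _ (Submonoid.powers s)
  obtain ⟨ω', hω', ⟨e'⟩⟩ := hK B hU.fromSpec
  obtain ⟨e2⟩ := chart_Lpull f k hU.fromSpec (hφ'.symm ▸ hg.symm) e.symm
  haveI hff := (KFlat.TildeD.full_faithful (R := CommRingCat.of B))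
  haveI := hff.1
  haveI := hff.2
  refine ⟨s, hps, Localization.Away s, inferInstance, inferInstance, inferInstance, inferInstance,
    isDualizing_away (FlatBC.isDualizing_of_iso
      ((DCoh.tildeD (CommRingCat.of B)).preimageIso (e'.symm ≪≫ e2)) hω') s fun p' hp' => ?_⟩
  obtain ⟨q', hq'⟩ := hsub (show p' ∈ (↑(PrimeSpectrum.basicOpen s) : Set (PrimeSpectrum A)) from hp')
  exact ⟨q', (congr($(hφ'.symm) q')).symm.trans hq'⟩

end Groth.Agent.CohOps.LpullDual
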