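import Groth.Agent.CohDev.AR
import Mathlib.RingTheory.Noetherian.Nilpotent

/-!
Coherent modules supported in a closed subset are killed by a power of any ideal cutting it out.
-/

universe u

open CategoryTheory Limits AlgebraicGeometry Opposite TopologicalSpace

noncomputable section

namespace Groth.Agent.CohOps.Power

open Groth.Agent.CohDev Groth.Agent.PullStalk.Sky

variable {X : Scheme.{u}} [IsNoetherian X]

theorem exists_pow_le {I J : X.IdealSheafData} (h : (J.support : Set X) ⊆ I.support) :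
    ∃ n : ℕ, I ^ (n + 1) ≤ J := by
  have hle : I ≤ J.radical := by
    rw [← Scheme.IdealSheafData.vanishingIdeal_support]
    exact Scheme.IdealSheafData.le_support_iff_le_vanishingIdeal.mp h
  obtain ⟨σ, hσ⟩ := isCompact_univ.elim_finite_subcover
    (fun W : X.affineOpens => ((W : X.Opens) : Set X)) (fun W => (W : X.Opens).isOpen) fun x _ => by
      obtain ⟨W, hW, hx, -⟩ := exists_isAffineOpen_mem_and_subset (X := X) (Opens.mem_top x)
      exact Set.mem_iUnion.mpr ⟨⟨W, hW⟩, hx⟩
  have hn : ∀ W : X.affineOpens, ∃ n : ℕ, (J.ideal W).radical ^ n ≤ J.ideal W := fun W => by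
    have := IsLocallyNoetherian.component_noetherian W
    exact Ideal.exists_radical_pow_le_of_fg _ (IsNoetherian.noetherian _)
  choose n hn using hn
  refine ⟨σ.sup n, Scheme.IdealSheafData.le_of_iSup_eq_top (fun W : {W // W ∈ σ} => W.1) ?_ fun W => ?_⟩
  · refine top_le_iff.mp fun x _ => ?_
    obtain ⟨W, hW, hx⟩ := Set.mem_iUnion₂.mp (hσ (Set.mem_univ x))
    exact Opens.mem_iSup.mpr ⟨⟨W, hW⟩, hx⟩
  · rw [Scheme.IdealSheafData.ideal_pow]
    refine le_trans (Ideal.pow_right_mono ?_ _) ((Ideal.pow_le_pow_right ?_).trans (hn W.1))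
    · exact hle W.1
    · exact (Finset.le_sup W.2).trans (Nat.le_succ _)

theorem exists_pow_killed {M : X.Modules} (hM : Coh.IsCoh M) (I : X.IdealSheafData)
    (h : CohB1.support M ⊆ (I.support : Set X)) : ∃ n : ℕ, Killed (I ^ (n + 1)) M := by
  haveI := hM.1
  haveI := hM.2
  obtain ⟨n, hn⟩ := exists_pow_le (I := I) (J := ScSupp.annIdeal M) (by rwa [ScSupp.support_annIdeal])
  exact ⟨n, killed_mono_ideal hn (killed_annIdeal hM)⟩

theorem exists_split {M : X.Modules} (hM : Coh.IsCoh M) {Z Z' : Set X} (hZ : IsClosed Z)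
    (hZ' : IsClosed Z') (h : CohB1.support M ⊆ Z ∪ Z') :
    ∃ S : ShortComplex X.Modules, S.ShortExact ∧ Nonempty (S.X₂ ≅ M) ∧ Coh.IsCoh S.X₁ ∧
      Coh.IsCoh S.X₃ ∧ CohB1.support S.X₁ ⊆ Z' ∧ CohB1.support S.X₃ ⊆ Z := by
  let I := Scheme.IdealSheafData.vanishingIdeal (X := X) ⟨Z, hZ⟩
  let J := Scheme.IdealSheafData.vanishingIdeal (X := X) ⟨Z', hZ'⟩
  have hI : (I.support : Set X) = Z := Scheme.IdealSheafData.coe_support_vanishingIdeal ⟨Z, hZ⟩
  have hJ : (J.support : Set X) = Z' := Scheme.IdealSheafData.coe_support_vanishingIdeal ⟨Z', hZ'⟩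
  obtain ⟨n, hn⟩ := exists_pow_killed hM (I * J) (by
    rw [Scheme.IdealSheafData.support_mul, Closeds.coe_sup, hI, hJ]
    exact h)
  let K := J ^ (n + 1)
  let ι : killSub K M ⟶ M := Props.SubSheaf.incl (killFam K M)
  let S := ShortComplex.mk ι (cokernel.π ι) (cokernel.condition ι)
  haveI : Mono ι := inferInstanceAs (Mono (Props.SubSheaf.incl (killFam K M)))
  have hS : S.ShortExact := { exact := ShortComplex.exact_cokernel ι }
  have h₁ : Coh.IsCoh (killSub K M) := isCoh_killSub hM
  refine ⟨S, hS, ⟨Iso.refl _⟩, h₁, isCoh_cokernel ι h₁.1 hM, ?_, ?_⟩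
  · refine (support_subset_of_killed (killed_killSub hM)).trans ?_
    rw [Scheme.IdealSheafData.support_pow_succ, hJ]
  · intro y hy
    by_contra hyZ
    refine hy (subsingleton_of_forall_eq 0 fun t => ?_)
    obtain ⟨t, rfl⟩ := PullStalk.Exact.stalk_surjective (cokernel.π ι) y t
    haveI : M.IsQuasicoherent := hM.1
    have hmem : t ∈ killFam K M y := by
      intro V hyV b hb
      have hns : y ∉ X.zeroLocus (U := V.1) ((I ^ (n + 1)).ideal V : Set Γ(X, V.1)) := fun hz => by
        apply hyZ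
        rw [← hI, ← Scheme.IdealSheafData.support_pow_succ I n]
        exact ((Set.ext_iff.mp ((I ^ (n + 1)).coe_support_inter V) y).mpr ⟨hz, hyV⟩).1
      rw [Scheme.mem_zeroLocus_iff] at hns
      push Not at hns
      obtain ⟨a, ha, hya⟩ := hns
      obtain ⟨m, s, hs, hst⟩ := CycLib.exists_smul_germ_eq M V.2 hyV t
      have hab : a * b ∈ ((I * J) ^ (n + 1)).ideal V := by
        rw [Scheme.IdealSheafData.ideal_pow, Scheme.IdealSheafData.ideal_mul, Pi.pow_apply,
          Pi.mul_apply, mul_pow]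
        rw [Scheme.IdealSheafData.ideal_pow, Pi.pow_apply] at ha hb
        exact Ideal.mul_mem_mul ha hb
      have h1 := congrArg (germM M V.1 y hyV) (hn V _ hab m)
      rw [germM_smul, map_mul, mul_smul] at h1
      have h2 := ((X.mem_basicOpen a y hyV).mp hya).smul_eq_zero.mp
        (h1.trans (map_zero (M.presheaf.germ V.1 y hyV).hom))
      rw [← hst, smul_comm] at h2
      exact hs.smul_eq_zero.mp h2
    have hr : t ∈ LinearMap.range (PullStalk.Exact.stalkLin ι y) := by
      obtain ⟨V, hV, hyV, -⟩ := exists_isAffineOpen_mem_and_subset (X := X) (Opens.mem_top y)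
      rw [genBy_killSec ⟨V, hV⟩ y hyV] at hmem
      refine (Submodule.span_le.mpr ?_) hmem
      rintro _ ⟨m, hm, rfl⟩
      obtain ⟨a, ha⟩ := (Props.SubSheaf.mem_range_incl (killFam K M) m).mpr fun z hz =>
        germ_mem_killFam (V := ⟨V, hV⟩) hm hz
      exact ⟨germM _ V y hyV a, (PullStalk.Exact.stalkLin_germ ι V y hyV a).trans
        (congrArg (germM M V y hyV) ha)⟩
    exact ((PullStalk.Exact.stalk_exact hS y).2.1 t).mpr hr

end Groth.Agent.CohOps.Power
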